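import Mathlib
import Cfsg.Agent.Lib.ChevG25

/-!
# The presented Lyons group: codes of root elements of `G₂(5)`, and the checked relations among them
-/

set_option autoImplicit false
set_option maxRecDepth 100000
set_option linter.all false
set_option Elab.async false
set_option maxHeartbeats 0

namespace Cfsg.Agent.Lib.LyOut

open Cfsg.Agent.Lib.FpVec Cfsg.Agent.Lib.ChevG25 Matrix

/-- The code of a root element `x_r(t)`. -/
def cX (p : ℕ × ℕ) : List ℕ := XL.getD (5 * p.1 + p.2 % 5) idC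

/-- The code of a word in root elements. -/
def cw : List (ℕ × ℕ) → List ℕ
  | [] => idC
  | p :: w => mulC (cX p) (cw w)

theorem XL_len : XL.length = 60 := by decide +kernel

theorem tab_add : ∀ r, r < 12 → ∀ a, a < 5 → ∀ b, b < 5 → mulC (cX (r,a)) (cX (r,b)) = cX (r,a+b) := by
  decide +kernel

theorem tab_zero : ∀ r, r < 12 → cX (r,0) = idC := by decide +kernel

/-- Letters of the Sylow subgroup. -/
def pL : ℕ → ℕ × ℕ
  | 0 => (7,1)
  | 1 => (6,1)
  | 2 => (7,4)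
  | _ => (6,4)

def wx8 : List (ℕ × ℕ) := [0,3,0,1,2,2,3,2,1,1,0,3].map pL
def wx9 : List (ℕ × ℕ) := [0,3,0,1,0,1,0,3,0].map pL
def wx10 : List (ℕ × ℕ) := [1,0,1,0,0,3,0,3,3,0,1].map pL
def wx11 : List (ℕ × ℕ) := [0,1,2,3,0,3,2,1].map pL

theorem c_wx8 : cw wx8 = cw [(8,1)] := by decide +kernel
theorem c_wx9 : cw wx9 = cw [(9,1)] := by decide +kernel
theorem c_wx10 : cw wx10 = cw [(10,1)] := by decide +kernel
theorem c_wx11 : cw wx11 = cw [(11,1)] := by decide +kernel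

/-- The word of a normal form in the radical. -/
def muw (a b c d e : ℕ) : List (ℕ × ℕ) := [(6,a),(8,b),(9,c),(10,d),(11,e)]

/-- The parts of the torus and the monomial elements. -/
def wT1 : List (ℕ × ℕ) := [(7,2),(4,2),(7,2),(7,4),(4,1),(7,4)]
def wT2 : List (ℕ × ℕ) := [(6,2),(5,2),(6,2),(6,4),(5,1),(6,4)]
def wN7 : List (ℕ × ℕ) := [(7,1),(4,4),(7,1)]
def wN6 : List (ℕ × ℕ) := [(6,1),(5,4),(6,1)]

/-- The multipliers of the torus. -/
def aa : ℕ → ℕ
  | 6 => 2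
  | 7 => 4
  | 8 => 3
  | 9 => 2
  | 10 => 3
  | _ => 1

def bb' : ℕ → ℕ
  | 6 => 4
  | 7 => 3
  | 8 => 2
  | 9 => 1
  | 10 => 3
  | _ => 2

theorem t1_rel : ∀ r, 6 ≤ r → r < 12 → cw (wT1 ++ [(r,1)]) = cw ((r, aa r) :: wT1) := by decide +kernel
theorem t2_rel : ∀ r, 6 ≤ r → r < 12 → cw (wT2 ++ [(r,1)]) = cw ((r, bb' r) :: wT2) := by decide +kernel
theorem t12_rel : cw (wT1 ++ wT2) = cw (wT2 ++ wT1) := by decide +kernel
theorem t1_four : cw (wT1 ++ wT1 ++ wT1 ++ wT1) = idC := by decide +kernel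
theorem t2_four : cw (wT2 ++ wT2 ++ wT2 ++ wT2) = idC := by decide +kernel

/-- The conjugation by `n₇`. -/
theorem n7_rel : ∀ q ∈ [((6,1),(10,1)), ((8,1),(9,1)), ((9,1),(8,4)), ((10,1),(6,4)), ((11,1),(11,1)),
      ((7,1),(4,4)), ((3,1),(2,1)), ((5,1),(1,1))],
    cw (wN7 ++ [q.1]) = cw (q.2 :: wN7) := by decide +kernel

theorem n7_t1 : cw (wN7 ++ wT1) = cw (wT1 ++ wT1 ++ wT1 ++ wN7) := by decide +kernel
theorem n7_t2 : cw (wN7 ++ wT2) = cw (wT1 ++ wT2 ++ wN7) := by decide +kernel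

/-- The conjugation by `n₆`. -/
theorem n6_rel : ∀ q ∈ [((7,1),(8,1)), ((8,1),(7,4)), ((9,1),(9,1)), ((10,1),(11,1)), ((11,1),(10,4)),
      ((6,1),(5,4)), ((4,1),(3,1)), ((1,1),(0,1))],
    cw (wN6 ++ [q.1]) = cw (q.2 :: wN6) := by decide +kernel

theorem n6_t1 : cw (wN6 ++ wT1) = cw (wT1 ++ wT2 ++ wT2 ++ wT2 ++ wN6) := by decide +kernel
theorem n6_t2 : cw (wN6 ++ wT2) = cw (wT2 ++ wT2 ++ wT2 ++ wN6) := by decide +kernel

/-- The action of `x₇` on the radical. -/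
theorem x7_rel : ∀ q ∈ [(6,(1,1,1,4,4)), (8,(0,1,2,2,2)), (9,(0,0,1,2,0)), (10,(0,0,0,1,0)), (11,(0,0,0,0,1))],
    cw [(q.1,1),(7,1)] = cw ((7,1) :: muw q.2.1 q.2.2.1 q.2.2.2.1 q.2.2.2.2.1 q.2.2.2.2.2) := by
  decide +kernel

/-- Commutators in the radical. -/
theorem comm_rel : ∀ q ∈ [(6,8),(6,9),(8,10),(9,10),(11,6),(11,7),(11,8),(11,9),(11,10)],
    cw [(q.1,1),(q.2,1)] = cw [(q.2,1),(q.1,1)] := by decide +kernel

theorem rel98 : cw [(9,1),(8,1)] = cw [(8,1),(9,1),(11,2)] := by decide +kernel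
theorem rel106 : cw [(10,1),(6,1)] = cw [(6,1),(10,1),(11,4)] := by decide +kernel

/-! ### Matrices -/

/-- The matrix of a code. -/
abbrev mM (c : List ℕ) : Matrix (Fin 14) (Fin 14) (ZMod 5) := mat 256 5 14 c

def C1 : List ℕ := [281474976711171, 0, 0, 0, 1108168671232, 2211908157440, 0, 2199023255552, 0, 515, 1240357964711585828086743040, 621387871281919395798974464, 618970019642690137449562112, 0]
def C2 : List ℕ := [0, 72057594037928708, 0, 262144, 0, 0, 0, 0, 772, 0, 4722366482869645213696, 0, 0, 79228162514264337593543950336]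

/-- The fixed vectors of the Sylow subgroup lie on the highest line. -/
theorem fix_cert : mM C1 * (mM (cX (7,1)) - 1) + mM C2 * (mM (cX (6,1)) - 1) =
    Matrix.diagonal (fun i : Fin 14 => if i = 13 then (0 : ZMod 5) else 1) := by decide +kernel

theorem x6_cube : (mM (cX (6,1)) - 1) ^ 3 = 0 := by decide +kernel
theorem x9_cube : (mM (cX (9,1)) - 1) ^ 3 ≠ 0 := by decide +kernel

/-- The diagonals of the torus. -/
def d1 : Fin 14 → ZMod 5 := fun i => ([1,1,1,2,3,2,4,3,2,4,3,2,3,1] : List (ZMod 5)).getD i 0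
def d2 : Fin 14 → ZMod 5 := fun i => ([1,1,3,2,1,3,2,4,4,3,2,1,3,2] : List (ZMod 5)).getD i 0

theorem mT1 : mM (cw wT1) = Matrix.diagonal d1 := by decide +kernel
theorem mT2 : mM (cw wT2) = Matrix.diagonal d2 := by decide +kernel

theorem diag_sep : ∀ i j : Fin 14, i ≠ j → ¬ (i.val ≤ 1 ∧ j.val ≤ 1) → d1 i ≠ d1 j ∨ d2 i ≠ d2 j := by decide +kernel

/-- The vectors of the highest weights. -/
def eV (i : Fin 14) : Fin 14 → ZMod 5 := fun j => if j = i then 1 else 0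

theorem x7_e13 : mM (cX (7,1)) *ᵥ eV 13 = eV 13 := by decide +kernel
theorem x6_e13 : mM (cX (6,1)) *ᵥ eV 13 = eV 13 := by decide +kernel
theorem x7_e12 : mM (cX (7,1)) *ᵥ eV 12 = eV 12 := by decide +kernel
theorem x6_e12 : mM (cX (6,1)) *ᵥ eV 12 = eV 12 + eV 13 := by decide +kernel
theorem t2_e13 : mM (cw wT2) *ᵥ eV 13 = (2 : ZMod 5) • eV 13 := by decide +kernel
theorem x4_e13 : ∀ t, t < 5 → mM (cX (4,t)) *ᵥ eV 13 = eV 13 := by decide +kernel

/-- The conjugates of `x₇` under `x₄(u)` leave the plane. -/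
theorem x4_col : ∀ u, u < 5 → u ≠ 0 → (mM (cw [(4,u),(7,1),(4,5-u)]) *ᵥ eV 12) 8 ≠ 0 := by decide +kernel

/-- The last nonzero commutator. -/
theorem comm778 : mM (cw [(7,1),(7,1),(8,1),(7,4),(8,4),(7,4),(8,1),(7,1),(8,4),(7,4)]) ≠ 1 := by decide +kernel

end Cfsg.Agent.Lib.LyOut
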