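import Mathlib
import Cfsg.Agent.Lib.LyDce.Base
import Cfsg.Agent.Lib.LyOut.Code

/-!
# The presented Lyons group: root elements of `G₂(5)` in the group, with their codes
-/

set_option autoImplicit false
set_option maxRecDepth 100000
set_option linter.all false
set_option Elab.async false
set_option maxHeartbeats 0

namespace Cfsg.Agent.Lib.LyOut

open Cfsg Cfsg.Spor Cfsg.Lie Cfsg.Agent.Lib.FpVec Cfsg.Agent.Lib.ChevG25 Cfsg.Agent.Lib.LyG25
  Cfsg.Agent.Lib.LyDce Matrix

/-- The root element `x_r(t)` in the group. -/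
noncomputable def XX (p : ℕ × ℕ) : G :=
  if h : p.1 < 12 then ((psi.symm ⟨xG ⟨p.1, h⟩ (p.2 : K), xG_mem _ _⟩ : HB) : G) else 1

theorem R_XX (p : ℕ × ℕ) : R (cX p) (XX p) := by
  by_cases h : p.1 < 12
  · have e : XX p = ((psi.symm ⟨xG ⟨p.1, h⟩ (p.2 : K), xG_mem _ _⟩ : HB) : G) := dif_pos h
    rw [e]
    refine ⟨(psi.symm _).2, ?_⟩
    have h2 : psi ⟨((psi.symm ⟨xG ⟨p.1, h⟩ (p.2 : K), xG_mem _ _⟩ : HB) : G), (psi.symm _).2⟩ =
        ⟨xG ⟨p.1, h⟩ (p.2 : K), xG_mem _ _⟩ := psi.apply_symm_apply _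
    rw [h2]
    have h3 := xG_rep ⟨p.1, h⟩ (p.2 : K)
    have h4 : xc (⟨p.1, h⟩ : Fin chevG2.nroots).val (p.2 : K) = cX p := by
      unfold xc cX
      simp only [ZMod.val_natCast]
    rw [h4] at h3
    exact h3
  · have e : XX p = 1 := dif_neg h
    have e2 : cX p = idC := by
      unfold cX
      rw [List.getD_eq_default]
      rw [XL_len]
      omega
    rw [e, e2]
    exact R.one

theorem XX_mem (p : ℕ × ℕ) : XX p ∈ HB := (R_XX p).mem

/-- A word in root elements. -/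
noncomputable def ew (w : List (ℕ × ℕ)) : G := (w.map XX).prod

theorem ew_nil : ew [] = 1 := rfl

theorem ew_cons (p : ℕ × ℕ) (w : List (ℕ × ℕ)) : ew (p :: w) = XX p * ew w := by
  simp [ew]

theorem ew_append (a b : List (ℕ × ℕ)) : ew (a ++ b) = ew a * ew b := by
  simp [ew]

theorem R_ew (w : List (ℕ × ℕ)) : R (cw w) (ew w) := by
  induction w with
  | nil => exact R.one
  | cons p w ih =>
    rw [ew_cons]
    exact (R_XX p).mul ih

theorem ew_mem (w : List (ℕ × ℕ)) : ew w ∈ HB := (R_ew w).mem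

theorem ew_singleton (p : ℕ × ℕ) : ew [p] = XX p := by simp [ew]

/-- Two elements with the same code are equal. -/
theorem eq_of_code {c d : List ℕ} {x y : G} (hx : R c x) (hy : R d y) (h : c = d) : x = y := by
  subst h
  exact R.unique hx hy

/-! ### Matrices of degree 14 -/

open Classical in
/-- The matrix of an element of the subgroup. -/
noncomputable def M14 (g : G) : Matrix (Fin 14) (Fin 14) K :=
  if h : g ∈ HB then
    (((psi ⟨g, h⟩ : GG) : GL IdG K) : Matrix IdG IdG K).submatrix eI.symm eI.symm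
  else 1

theorem M14_pos {g : G} (h : g ∈ HB) :
    M14 g = (((psi ⟨g, h⟩ : GG) : GL IdG K) : Matrix IdG IdG K).submatrix eI.symm eI.symm := dif_pos h

theorem M14_of_R {c : List ℕ} {g : G} (h : R c g) : M14 g = mat 256 5 14 c := by
  obtain ⟨h1, h2⟩ := h
  rw [M14_pos h1, h2.2]
  ext i j
  simp [decI]

theorem M14_mul {g h : G} (hg : g ∈ HB) (hh : h ∈ HB) : M14 (g * h) = M14 g * M14 h := by
  have e4 : (⟨g * h, HB.mul_mem hg hh⟩ : HB) = ⟨g, hg⟩ * ⟨h, hh⟩ := rfl
  rw [M14_pos hg, M14_pos hh, M14_pos (HB.mul_mem hg hh), e4, map_mul]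
  exact (Matrix.submatrix_mul_equiv _ _ _ _ _).symm

theorem M14_one : M14 1 = 1 := by
  have e2 : (⟨1, HB.one_mem⟩ : HB) = 1 := rfl
  rw [M14_pos HB.one_mem, e2, map_one]
  exact Matrix.submatrix_one_equiv _

theorem M14_inv_mul {g : G} (hg : g ∈ HB) : M14 g⁻¹ * M14 g = 1 := by
  rw [← M14_mul (HB.inv_mem hg) hg, inv_mul_cancel, M14_one]

theorem M14_mul_inv {g : G} (hg : g ∈ HB) : M14 g * M14 g⁻¹ = 1 := by
  rw [← M14_mul hg (HB.inv_mem hg), mul_inv_cancel, M14_one]

theorem M14_inj {g h : G} (hg : g ∈ HB) (hh : h ∈ HB) (e : M14 g = M14 h) : g = h := by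
  rw [M14_pos hg, M14_pos hh] at e
  have e4 : (((psi ⟨g, hg⟩ : GG) : GL IdG K) : Matrix IdG IdG K) = (((psi ⟨h, hh⟩ : GG) : GL IdG K) : Matrix IdG IdG K) := by
    ext i j
    have := congrFun (congrFun e (eI i)) (eI j)
    simpa using this
  have e5 : psi ⟨g, hg⟩ = psi ⟨h, hh⟩ := Subtype.ext (Units.ext e4)
  exact congrArg Subtype.val (psi.injective e5)

/-- The action on vector codes. -/
theorem act_of_R {c : List ℕ} {g : G} (h : R c g) {v : ℕ} (hv : Rd 256 5 v) :
    Rd 256 5 (mv 256 5 14 c v) ∧ decV 256 5 14 (mv 256 5 14 c v) = M14 g *ᵥ decV 256 5 14 v := by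
  refine ⟨rd_mv par _ _, ?_⟩
  rw [M14_of_R h]
  exact decV_mv_good par h.2.1 hv

/-! ### Two facts on vector codes -/

theorem mv_lt14' (c : List ℕ) (u : ℕ) : mv 256 5 14 c u < 256 ^ 14 := by
  unfold mv
  exact redu_lt (B := 256) (p := 5) (by norm_num) (by norm_num) (by norm_num) 14 _

/-- The digits of a reduced code are determined by its vector. -/
theorem code_inj' {x y : ℕ} (hx : Rd 256 5 x) (hy : Rd 256 5 y) (hx2 : x < 256 ^ 14) (hy2 : y < 256 ^ 14)
    (h : decV 256 5 14 x = decV 256 5 14 y) : x = y := by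
  rw [eq_val (B := 256) (by norm_num) 14 x hx2, eq_val (B := 256) (by norm_num) 14 y hy2]
  unfold val
  refine Finset.sum_congr rfl fun i hi => ?_
  have hi' : i < 14 := Finset.mem_range.mp hi
  have h1 := congrFun h ⟨i, hi'⟩
  simp only [decV] at h1
  have h2 := (ZMod.natCast_eq_natCast_iff' _ _ 5).mp h1
  rw [Nat.mod_eq_of_lt (hx i), Nat.mod_eq_of_lt (hy i)] at h2
  rw [h2]
theorem rd_of_redu' {v : ℕ} (h : redu 256 5 14 v = v) : Rd 256 5 v := by
  rw [← h]
  exact rd_redu (B := 256) (p := 5) (by norm_num) (by norm_num) (by norm_num) 14 v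
theorem lt_of_redu' {v : ℕ} (h : redu 256 5 14 v = v) : v < 256 ^ 14 := by
  rw [← h]
  exact redu_lt (B := 256) (p := 5) (by norm_num) (by norm_num) (by norm_num) 14 v

end Cfsg.Agent.Lib.LyOut
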