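import Mathlib
import Cfsg.Agent.Lib.LyOut.Code

/-!
# The presented Lyons group: the check of the triple commutators of root elements
-/

set_option autoImplicit false
set_option maxRecDepth 100000
set_option linter.all false
set_option Elab.async false
set_option maxHeartbeats 0
set_option synthInstance.maxHeartbeats 0
set_option synthInstance.maxSize 100000

namespace Cfsg.Agent.Lib.LyOut

open Cfsg.Agent.Lib.FpVec Cfsg.Agent.Lib.ChevG25 Matrix

/-- The word of `[u, [u, [u, v]]]` from `u, u⁻¹, v, v⁻¹`. -/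
def w3 (u u' v v' : ℕ × ℕ) : List (ℕ × ℕ) :=
  let w1 := [u, v, u', v']
  let w1' := [v, u, v', u']
  let w2 := [u] ++ w1 ++ [u'] ++ w1'
  let w2' := w1 ++ [u] ++ w1' ++ [u']
  [u] ++ w2 ++ [u'] ++ w2'

theorem w3_ne : mM (cw (w3 (7,1) (7,4) (6,1) (6,4))) ≠ 1 := by decide +kernel

/-- The only triple commutator of root elements which is not trivial. -/
theorem w3_tab : ∀ r, r < 6 → ∀ s, s < 6 → ∀ m, m < 4 → ∀ n, n < 4 → (r = 1 ∧ s = 0) ∨
    cw (w3 (r + 6, m + 1) (r + 6, 4 - m) (s + 6, n + 1) (s + 6, 4 - n)) = idC := by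
  decide +kernel

end Cfsg.Agent.Lib.LyOut
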