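import Mathlib

/-!
# Generalities on generated subgroups of a finite group, used for the automorphisms of the Lyons group
-/

set_option autoImplicit false
set_option linter.all false

namespace Cfsg.Agent.Lib.LyOut

section gen

variable {Γ : Type*} [Group Γ]

/-- A subset stable under left multiplication by generators is stable under the generated subgroup (finite case). -/
theorem closure_mul_subset [Finite Γ] (gens S : Set Γ) (h : ∀ g ∈ gens, ∀ x ∈ S, g * x ∈ S) :
    ∀ y ∈ Subgroup.closure gens, ∀ x ∈ S, y * x ∈ S := by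
  intro y hy
  induction hy using Subgroup.closure_induction with
  | mem g hg => exact h g hg
  | one =>
    intro x hx
    simpa using hx
  | mul a b _ _ ha hb =>
    intro x hx
    rw [mul_assoc]
    exact ha _ (hb _ hx)
  | inv a _ ha =>
    intro x hx
    have hp : ∀ n : ℕ, a ^ n * x ∈ S := by
      intro n
      induction n with
      | zero => simpa using hx
      | succ n ih =>
        rw [pow_succ', mul_assoc]
        exact ha _ ih
    have e : a⁻¹ = a ^ (orderOf a - 1) := by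
      apply inv_eq_of_mul_eq_one_right
      rw [← pow_succ']
      have : orderOf a - 1 + 1 = orderOf a := Nat.sub_add_cancel (orderOf_pos a)
      rw [this, pow_orderOf_eq_one]
    rw [e]
    exact hp _

theorem closure_subset_of_mul [Finite Γ] (gens S : Set Γ) (h1 : (1 : Γ) ∈ S) (h : ∀ g ∈ gens, ∀ x ∈ S, g * x ∈ S) :
    ∀ y ∈ Subgroup.closure gens, y ∈ S := by
  intro y hy
  have := closure_mul_subset gens S h y hy 1 h1
  simpa using this

/-- A subgroup normalised by generators. -/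
theorem closure_conj [Finite Γ] (gens : Set Γ) (Q : Subgroup Γ) (h : ∀ g ∈ gens, ∀ q ∈ Q, g * q * g⁻¹ ∈ Q) :
    ∀ y ∈ Subgroup.closure gens, ∀ q ∈ Q, y * q * y⁻¹ ∈ Q := by
  intro y hy
  induction hy using Subgroup.closure_induction with
  | mem g hg => exact h g hg
  | one =>
    intro q hq
    simpa using hq
  | mul a b _ _ ha hb =>
    intro q hq
    have := ha _ (hb _ hq)
    have e : a * b * q * (a * b)⁻¹ = a * (b * q * b⁻¹) * a⁻¹ := by group
    rw [e]
    exact this
  | inv a _ ha =>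
    intro q hq
    have hp : ∀ n : ℕ, a ^ n * q * (a ^ n)⁻¹ ∈ Q := by
      intro n
      induction n with
      | zero => simpa using hq
      | succ n ih =>
        have e : a ^ (n + 1) * q * (a ^ (n + 1))⁻¹ = a * (a ^ n * q * (a ^ n)⁻¹) * a⁻¹ := by
          rw [pow_succ']
          group
        rw [e]
        exact ha _ ih
    have e : a⁻¹ = a ^ (orderOf a - 1) := by
      apply inv_eq_of_mul_eq_one_right
      rw [← pow_succ']
      have : orderOf a - 1 + 1 = orderOf a := Nat.sub_add_cancel (orderOf_pos a)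
      rw [this, pow_orderOf_eq_one]
    rw [e]
    have := hp (orderOf a - 1)
    simpa using this

/-- Moving an element across powers with a central twist. -/
theorem pow_twist {a b z : Γ} {k : ℕ} (hab : a * b = b * a * z ^ k) (hzb : Commute z b) (n : ℕ) :
    a * b ^ n = b ^ n * a * z ^ (k * n) := by
  induction n with
  | zero => simp
  | succ n ih =>
    have hzk : Commute (z ^ (k * n)) b := hzb.pow_left _
    calc a * b ^ (n + 1) = (a * b ^ n) * b := by rw [pow_succ, mul_assoc]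
      _ = b ^ n * a * z ^ (k * n) * b := by rw [ih]
      _ = b ^ n * a * (z ^ (k * n) * b) := by rw [mul_assoc]
      _ = b ^ n * a * (b * z ^ (k * n)) := by rw [hzk.eq]
      _ = b ^ n * (a * b) * z ^ (k * n) := by group
      _ = b ^ n * (b * a * z ^ k) * z ^ (k * n) := by rw [hab]
      _ = b ^ (n + 1) * a * z ^ (k + k * n) := by
        rw [pow_succ, pow_add]
        group
      _ = b ^ (n + 1) * a * z ^ (k * (n + 1)) := by
        congr 2
        ring

/-- The normal form in a group with a central twist. -/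
theorem five_normal [Finite Γ] {g1 g2 g3 g4 z : Γ} {k1 k2 : ℕ}
    (h12 : Commute g1 g2) (h13 : Commute g1 g3) (h24 : Commute g2 g4) (h34 : Commute g3 g4)
    (hz1 : Commute z g1) (hz2 : Commute z g2) (hz3 : Commute z g3) (hz4 : Commute z g4)
    (h32 : g3 * g2 = g2 * g3 * z ^ k1) (h41 : g4 * g1 = g1 * g4 * z ^ k2) :
    ∀ y ∈ Subgroup.closure {g1, g2, g3, g4, z},
      ∃ a b c d e : ℕ, y = g1 ^ a * g2 ^ b * g3 ^ c * g4 ^ d * z ^ e := by
  apply closure_subset_of_mul _ {y | ∃ a b c d e : ℕ, y = g1 ^ a * g2 ^ b * g3 ^ c * g4 ^ d * z ^ e}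
  · exact ⟨0, 0, 0, 0, 0, by simp⟩
  · rintro g hg _ ⟨a, b, c, d, e, rfl⟩
    simp only [Set.mem_insert_iff, Set.mem_singleton_iff] at hg
    rcases hg with hg | hg | hg | hg | hg <;> rw [hg]
    · refine ⟨a + 1, b, c, d, e, ?_⟩
      rw [pow_succ']
      group
    · refine ⟨a, b + 1, c, d, e, ?_⟩
      have h1 : g2 * g1 ^ a = g1 ^ a * g2 := ((h12.symm).pow_right a).eq
      calc g2 * (g1 ^ a * g2 ^ b * g3 ^ c * g4 ^ d * z ^ e)
          = (g2 * g1 ^ a) * g2 ^ b * g3 ^ c * g4 ^ d * z ^ e := by group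
        _ = g1 ^ a * g2 * g2 ^ b * g3 ^ c * g4 ^ d * z ^ e := by rw [h1]
        _ = _ := by
          rw [pow_succ' g2 b]
          group
    · refine ⟨a, b, c + 1, d, e + k1 * b, ?_⟩
      have h1 : g3 * g1 ^ a = g1 ^ a * g3 := ((h13.symm).pow_right a).eq
      have h2 := pow_twist h32 hz2 b
      have hc : Commute (z ^ (k1 * b)) (g3 ^ c * g4 ^ d) := by
        apply Commute.mul_right
        · exact (hz3.pow_left _).pow_right _
        · exact (hz4.pow_left _).pow_right _
      calc g3 * (g1 ^ a * g2 ^ b * g3 ^ c * g4 ^ d * z ^ e)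
          = (g3 * g1 ^ a) * g2 ^ b * g3 ^ c * g4 ^ d * z ^ e := by group
        _ = g1 ^ a * (g3 * g2 ^ b) * g3 ^ c * g4 ^ d * z ^ e := by rw [h1]; group
        _ = g1 ^ a * (g2 ^ b * g3 * z ^ (k1 * b)) * g3 ^ c * g4 ^ d * z ^ e := by rw [h2]
        _ = g1 ^ a * g2 ^ b * g3 * (z ^ (k1 * b) * (g3 ^ c * g4 ^ d)) * z ^ e := by group
        _ = g1 ^ a * g2 ^ b * g3 * ((g3 ^ c * g4 ^ d) * z ^ (k1 * b)) * z ^ e := by rw [hc.eq]
        _ = _ := by
          rw [pow_succ' g3 c, pow_add]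
          group
    · refine ⟨a, b, c, d + 1, e + k2 * a, ?_⟩
      have h1 := pow_twist h41 hz1 a
      have h2 : g4 * g2 ^ b = g2 ^ b * g4 := ((h24.symm).pow_right b).eq
      have h3 : g4 * g3 ^ c = g3 ^ c * g4 := ((h34.symm).pow_right c).eq
      have hc : Commute (z ^ (k2 * a)) (g2 ^ b * g3 ^ c * g4 ^ (d + 1)) := by
        apply Commute.mul_right
        · apply Commute.mul_right
          · exact (hz2.pow_left _).pow_right _
          · exact (hz3.pow_left _).pow_right _
        · exact (hz4.pow_left _).pow_right _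
      calc g4 * (g1 ^ a * g2 ^ b * g3 ^ c * g4 ^ d * z ^ e)
          = (g4 * g1 ^ a) * g2 ^ b * g3 ^ c * g4 ^ d * z ^ e := by group
        _ = g1 ^ a * g4 * z ^ (k2 * a) * g2 ^ b * g3 ^ c * g4 ^ d * z ^ e := by rw [h1]
        _ = g1 ^ a * g4 * (z ^ (k2 * a) * g2 ^ b) * g3 ^ c * g4 ^ d * z ^ e := by group
        _ = g1 ^ a * g4 * (g2 ^ b * z ^ (k2 * a)) * g3 ^ c * g4 ^ d * z ^ e := by
            rw [((hz2.pow_left _).pow_right _).eq]
        _ = g1 ^ a * (g4 * g2 ^ b) * z ^ (k2 * a) * g3 ^ c * g4 ^ d * z ^ e := by group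
        _ = g1 ^ a * (g2 ^ b * g4) * z ^ (k2 * a) * g3 ^ c * g4 ^ d * z ^ e := by rw [h2]
        _ = g1 ^ a * g2 ^ b * g4 * (z ^ (k2 * a) * g3 ^ c) * g4 ^ d * z ^ e := by group
        _ = g1 ^ a * g2 ^ b * g4 * (g3 ^ c * z ^ (k2 * a)) * g4 ^ d * z ^ e := by
            rw [((hz3.pow_left _).pow_right _).eq]
        _ = g1 ^ a * g2 ^ b * (g4 * g3 ^ c) * z ^ (k2 * a) * g4 ^ d * z ^ e := by group
        _ = g1 ^ a * g2 ^ b * (g3 ^ c * g4) * z ^ (k2 * a) * g4 ^ d * z ^ e := by rw [h3]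
        _ = g1 ^ a * g2 ^ b * g3 ^ c * g4 * (z ^ (k2 * a) * g4 ^ d) * z ^ e := by group
        _ = g1 ^ a * g2 ^ b * g3 ^ c * g4 * (g4 ^ d * z ^ (k2 * a)) * z ^ e := by
            rw [((hz4.pow_left _).pow_right _).eq]
        _ = _ := by
          rw [pow_succ' g4 d, pow_add]
          group
    · refine ⟨a, b, c, d, e + 1, ?_⟩
      have hc : Commute z (g1 ^ a * g2 ^ b * g3 ^ c * g4 ^ d) := by
        repeat' apply Commute.mul_right
        · exact hz1.pow_right _
        · exact hz2.pow_right _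
        · exact hz3.pow_right _
        · exact hz4.pow_right _
      calc z * (g1 ^ a * g2 ^ b * g3 ^ c * g4 ^ d * z ^ e)
          = (z * (g1 ^ a * g2 ^ b * g3 ^ c * g4 ^ d)) * z ^ e := by group
        _ = ((g1 ^ a * g2 ^ b * g3 ^ c * g4 ^ d) * z) * z ^ e := by rw [hc.eq]
        _ = _ := by
          rw [pow_succ' z e]
          group

/-- Nilpotency class two from the generators. -/
theorem class_two {S : Set Γ} {z : Γ} (hz : ∀ g ∈ Subgroup.closure S, Commute z g)
    (h : ∀ a ∈ S, ∀ b ∈ S, ∃ k : ℤ, a * b = b * a * z ^ k) :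
    ∀ a ∈ Subgroup.closure S, ∀ b ∈ Subgroup.closure S, ∃ k : ℤ, a * b = b * a * z ^ k := by
  have hzk : ∀ (k : ℤ) (g : Γ), g ∈ Subgroup.closure S → Commute (z ^ k) g := fun k g hg => (hz g hg).zpow_left k
  intro a ha
  induction ha using Subgroup.closure_induction with
  | mem a ha =>
    intro b hb
    induction hb using Subgroup.closure_induction with
    | mem b hb => exact h a ha b hb
    | one => exact ⟨0, by simp⟩
    | mul b c hb hc ih1 ih2 =>
      obtain ⟨k1, h1⟩ := ih1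
      obtain ⟨k2, h2⟩ := ih2
      refine ⟨k1 + k2, ?_⟩
      calc a * (b * c) = (a * b) * c := by group
        _ = b * a * z ^ k1 * c := by rw [h1]
        _ = b * a * (z ^ k1 * c) := by group
        _ = b * a * (c * z ^ k1) := by rw [(hzk k1 c hc).eq]
        _ = b * (a * c) * z ^ k1 := by group
        _ = b * (c * a * z ^ k2) * z ^ k1 := by rw [h2]
        _ = _ := by
          rw [add_comm k1 k2, zpow_add]
          group
    | inv b hb ih =>
      obtain ⟨k, h1⟩ := ih
      refine ⟨-k, ?_⟩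
      have hzb := hzk k b hb
      have h2 : b⁻¹ * a = a * b⁻¹ * z ^ k := by
        calc b⁻¹ * a = b⁻¹ * (a * b) * b⁻¹ := by group
          _ = b⁻¹ * (b * a * z ^ k) * b⁻¹ := by rw [h1]
          _ = a * (z ^ k * b⁻¹) := by group
          _ = a * (b⁻¹ * z ^ k) := by rw [hzb.inv_right.eq]
          _ = a * b⁻¹ * z ^ k := by group
      rw [h2]
      group
  | one =>
    intro b hb
    exact ⟨0, by simp⟩
  | mul a c ha hc ih1 ih2 =>
    intro b hb
    obtain ⟨k1, h1⟩ := ih1 b hb
    obtain ⟨k2, h2⟩ := ih2 b hb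
    refine ⟨k1 + k2, ?_⟩
    calc a * c * b = a * (c * b) := by group
      _ = a * (b * c * z ^ k2) := by rw [h2]
      _ = (a * b) * c * z ^ k2 := by group
      _ = b * a * z ^ k1 * c * z ^ k2 := by rw [h1]
      _ = b * a * (z ^ k1 * c) * z ^ k2 := by group
      _ = b * a * (c * z ^ k1) * z ^ k2 := by rw [(hzk k1 c hc).eq]
      _ = _ := by
        rw [zpow_add]
        group
  | inv a ha ih =>
    intro b hb
    obtain ⟨k, h1⟩ := ih b hb
    refine ⟨-k, ?_⟩
    have hza := hzk k a ha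
    have h2 : a⁻¹ * b * a = b * z ^ (-k) := by
      calc a⁻¹ * b * a = a⁻¹ * (b * a * z ^ k) * z ^ (-k) := by group
        _ = a⁻¹ * (a * b) * z ^ (-k) := by rw [h1]
        _ = _ := by group
    calc a⁻¹ * b = (a⁻¹ * b * a) * a⁻¹ := by group
      _ = b * z ^ (-k) * a⁻¹ := by rw [h2]
      _ = b * (z ^ (-k) * a⁻¹) := by group
      _ = b * (a⁻¹ * z ^ (-k)) := by rw [(hzk (-k) a ha).inv_right.eq]
      _ = _ := by group

/-- An element of order prime to the index lies in a normal subgroup. -/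
theorem mem_of_normal_index {A Q : Subgroup Γ} [Finite A] (hQA : Q ≤ A) (hn : ∀ a ∈ A, ∀ q ∈ Q, a * q * a⁻¹ ∈ Q)
    {N m : ℕ} (hc : Nat.card A = N * Nat.card Q) (hco : Nat.Coprime m N) (hQ : Nat.card Q ≠ 0) {y : Γ} (hy : y ∈ A)
    (hm : y ^ m = 1) : y ∈ Q := by
  let Q' : Subgroup A := Q.subgroupOf A
  haveI : Q'.Normal := ⟨fun q hq a => by
    have h1 : (q : Γ) ∈ Q := Subgroup.mem_subgroupOf.mp hq
    exact Subgroup.mem_subgroupOf.mpr (hn a a.2 q h1)⟩
  have hcard : Nat.card (A ⧸ Q') = N := by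
    have h1 : Nat.card Q' * Q'.index = Nat.card A := Subgroup.card_mul_index Q'
    have h2 : Nat.card Q' = Nat.card Q := Nat.card_congr (Subgroup.subgroupOfEquivOfLe hQA).toEquiv
    rw [h2, hc, mul_comm N] at h1
    have h3 : Q'.index = N := Nat.eq_of_mul_eq_mul_left (Nat.pos_of_ne_zero hQ) h1
    exact h3
  let y' : A := ⟨y, hy⟩
  have h1 : ((y' : A) : A ⧸ Q') ^ N = 1 := by
    rw [← hcard]
    exact pow_card_eq_one'
  have h2 : ((y' : A) : A ⧸ Q') ^ m = 1 := by
    rw [← QuotientGroup.mk_pow]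
    have : y' ^ m = 1 := Subtype.ext hm
    rw [this]
    rfl
  have h3 : ((y' : A) : A ⧸ Q') = 1 := by
    have := (pow_gcd_eq_one (a := ((y' : A) : A ⧸ Q')) (m := m) (n := N)).2 ⟨h2, h1⟩
    rw [hco.gcd_eq_one, pow_one] at this
    exact this
  have h4 : y' ∈ Q' := (QuotientGroup.eq_one_iff _).mp h3
  exact Subgroup.mem_subgroupOf.mp h4

/-- Two subgroups of the order of a Sylow subgroup are conjugate. -/
theorem sylow_conj [Finite Γ] {p : ℕ} [Fact p.Prime] {n m : ℕ} (hG : Nat.card Γ = p ^ n * m) (hm : ¬ p ∣ m)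
    (Q R : Subgroup Γ) (hQ : Nat.card Q = p ^ n) (hR : Nat.card R = p ^ n) :
    ∃ g : Γ, ∀ x, x ∈ R ↔ g * x * g⁻¹ ∈ Q := by
  have hfac : (Nat.card Γ).factorization p = n := by
    rw [hG]
    have hm0 : m ≠ 0 := by
      rintro rfl
      exact hm (dvd_zero _)
    have hp0 : p ^ n ≠ 0 := pow_ne_zero _ (Fact.out : p.Prime).ne_zero
    rw [Nat.factorization_mul hp0 hm0, Nat.Prime.factorization_pow Fact.out]
    simp [Nat.factorization_eq_zero_of_not_dvd hm]
  let SQ : Sylow p Γ := Sylow.ofCard Q (by rw [hQ, hfac])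
  let SR : Sylow p Γ := Sylow.ofCard R (by rw [hR, hfac])
  obtain ⟨g, hg⟩ := MulAction.exists_smul_eq Γ SR SQ
  refine ⟨g, fun x => ?_⟩
  have h1 : (Q : Subgroup Γ) = (g • SR : Sylow p Γ) := by
    rw [hg]
    rfl
  have h2 : ((g • SR : Sylow p Γ) : Subgroup Γ) = (SR : Subgroup Γ).map (MulAut.conj g).toMonoidHom := rfl
  rw [h2] at h1
  have h3 : (SR : Subgroup Γ) = R := rfl
  rw [h3] at h1
  rw [h1]
  constructor
  · intro hx
    exact ⟨x, hx, rfl⟩
  · rintro ⟨y, hy, e⟩
    have e2 : y = x := by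
      have : (MulAut.conj g).toMonoidHom y = (MulAut.conj g).toMonoidHom x := e
      exact (MulAut.conj g).injective this
    rwa [← e2]

end gen

end Cfsg.Agent.Lib.LyOut
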