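import Mathlib
import Cfsg.Agent.Lib.LyOut.Gen

/-!
# More generalities on subgroups and on matrices commuting with given matrices
-/

set_option autoImplicit false
set_option linter.all false

namespace Cfsg.Agent.Lib.LyOut

section gen2

variable {Γ : Type*} [Group Γ]

theorem conj_closure_mem (Q : Subgroup Γ) (S : Set Γ) (a : Γ) (h : ∀ s ∈ S, a * s * a⁻¹ ∈ Q) :
    ∀ q ∈ Subgroup.closure S, a * q * a⁻¹ ∈ Q := by
  intro q hq
  induction hq using Subgroup.closure_induction with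
  | mem s hs => exact h s hs
  | one => simp [Q.one_mem]
  | mul x y _ _ hx hy =>
    have e : a * (x * y) * a⁻¹ = (a * x * a⁻¹) * (a * y * a⁻¹) := by group
    rw [e]
    exact Q.mul_mem hx hy
  | inv x _ hx =>
    have e : a * x⁻¹ * a⁻¹ = (a * x * a⁻¹)⁻¹ := by group
    rw [e]
    exact Q.inv_mem hx

/-- An element carrying a subgroup of a finite group into itself normalises it. -/
theorem mem_norm_of_conj [Finite Γ] {Q : Subgroup Γ} {g : Γ} (h : ∀ q ∈ Q, g * q * g⁻¹ ∈ Q) :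
    g ∈ Subgroup.normalizer (Q : Set Γ) := by
  have hsub : Subgroup.zpowers g ≤ Subgroup.normalizer (Q : Set Γ) := by
    rw [Subgroup.le_normalizer_iff]
    intro y hy q hq
    have hfin : y ∈ Subgroup.closure ({g} : Set Γ) := by
      rw [← Subgroup.zpowers_eq_closure]
      exact hy
    exact closure_conj {g} Q (by
      rintro _ rfl q hq
      exact h q hq) y hfin q hq
  exact hsub (Subgroup.mem_zpowers g)

theorem norm_conj {Q : Subgroup Γ} {g q : Γ} (hg : g ∈ Subgroup.normalizer (Q : Set Γ)) (hq : q ∈ Q) :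
    g * q * g⁻¹ ∈ Q := (hg q).mp hq

/-- A conjugate of a subgroup inside a subgroup: Lagrange. -/
theorem conj_card_dvd {P A : Subgroup Γ} {h : Γ} (hP : ∀ q ∈ P, h * q * h⁻¹ ∈ A) : Nat.card P ∣ Nat.card A := by
  have h1 : P.map (MulAut.conj h).toMonoidHom ≤ A := by
    rintro _ ⟨q, hq, rfl⟩
    exact hP q hq
  have h2 : Nat.card (P.map (MulAut.conj h).toMonoidHom) = Nat.card P :=
    Subgroup.card_map_of_injective (MulAut.conj h).injective
  rw [← h2]
  exact Subgroup.card_dvd_of_le h1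

/-- Sylow's theorem inside a subgroup. -/
theorem sylow_conj_in [Finite Γ] {p : ℕ} [Fact p.Prime] {n m : ℕ} (Y R Q : Subgroup Γ) (hRY : R ≤ Y) (hQY : Q ≤ Y)
    (hY : Nat.card Y = p ^ n * m) (hm : ¬ p ∣ m) (hQ : Nat.card Q = p ^ n) (hR : Nat.card R = p ^ n) :
    ∃ g ∈ Y, ∀ x, x ∈ R ↔ g * x * g⁻¹ ∈ Q := by
  have hQ' : Nat.card (Q.subgroupOf Y) = p ^ n := by
    rw [← hQ]
    exact Nat.card_congr (Subgroup.subgroupOfEquivOfLe hQY).toEquiv
  have hR' : Nat.card (R.subgroupOf Y) = p ^ n := by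
    rw [← hR]
    exact Nat.card_congr (Subgroup.subgroupOfEquivOfLe hRY).toEquiv
  obtain ⟨g, hg⟩ := sylow_conj (Γ := Y) hY hm (Q.subgroupOf Y) (R.subgroupOf Y) hQ' hR'
  refine ⟨g, g.2, fun x => ?_⟩
  constructor
  · intro hx
    have h1 := (hg ⟨x, hRY hx⟩).mp (Subgroup.mem_subgroupOf.mpr hx)
    exact Subgroup.mem_subgroupOf.mp h1
  · intro hx
    have hxY : x ∈ Y := by
      have h2 : (g : Γ) * x * (g : Γ)⁻¹ ∈ Y := hQY hx
      have e : x = (g : Γ)⁻¹ * ((g : Γ) * x * (g : Γ)⁻¹) * g := by group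
      rw [e]
      exact Y.mul_mem (Y.mul_mem (Y.inv_mem g.2) h2) g.2
    have h1 := (hg ⟨x, hxY⟩).mpr (Subgroup.mem_subgroupOf.mpr hx)
    exact Subgroup.mem_subgroupOf.mp h1

/-- The count of cosets. -/
theorem card_cosets {Y₁ S₀ : Subgroup Γ} [Finite S₀] (hle : Y₁ ≤ S₀) {n : ℕ} (g : Fin n → Γ) (hg : ∀ i, g i ∈ S₀)
    (hd : ∀ s t, (g s)⁻¹ * g t ∈ Y₁ → s = t) : n * Nat.card Y₁ ≤ Nat.card S₀ := by
  let f : Fin n × Y₁ → S₀ := fun q => ⟨g q.1 * q.2, S₀.mul_mem (hg _) (hle q.2.2)⟩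
  have hf : Function.Injective f := by
    rintro ⟨s, y⟩ ⟨t, y'⟩ e
    have e1 : g s * (y : Γ) = g t * (y' : Γ) := congrArg Subtype.val e
    have e2 : (g t)⁻¹ * g s = (y' : Γ) * (y : Γ)⁻¹ := by
      calc (g t)⁻¹ * g s = (g t)⁻¹ * (g s * y) * (y : Γ)⁻¹ := by group
        _ = (g t)⁻¹ * (g t * y') * (y : Γ)⁻¹ := by rw [e1]
        _ = _ := by group
    have e3 : t = s := hd t s (by
      rw [e2]
      exact Y₁.mul_mem y'.2 (Y₁.inv_mem y.2))
    subst e3
    have e4 : y = y' := Subtype.ext (mul_left_cancel e1)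
    rw [e4]
  have := Nat.card_le_card_of_injective f hf
  simpa [Nat.card_prod] using this

/-- A subgroup covered by translates. -/
theorem card_translates {Y Y₁ : Subgroup Γ} [Finite Y₁] {n : ℕ} (t : Fin n → Γ)
    (h : ∀ y ∈ Y, ∃ j, ∃ y₁ ∈ Y₁, y = t j * y₁) : Nat.card Y ≤ n * Nat.card Y₁ := by
  choose j y₁ hy₁ e using h
  let f : Y → Fin n × Y₁ := fun y => (j y y.2, ⟨y₁ y y.2, hy₁ y y.2⟩)
  have hf : Function.Injective f := by
    intro a b hab
    have h1 : j a a.2 = j b b.2 := congrArg Prod.fst hab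
    have h2 : y₁ a a.2 = y₁ b b.2 := congrArg (fun q => ((q.2 : Y₁) : Γ)) hab
    apply Subtype.ext
    rw [e a a.2, e b b.2, h1, h2]
  haveI : Finite (Fin n × Y₁) := inferInstance
  have := Nat.card_le_card_of_injective f hf
  simpa [Nat.card_prod] using this

/-- Conjugation and powers. -/
theorem conj_pow_pow' {f y : Γ} {m : ℕ} (h : f * y * f⁻¹ = y ^ m) (j k : ℕ) :
    f ^ j * y ^ k * (f ^ j)⁻¹ = y ^ (k * m ^ j) := by
  have hk : ∀ (k : ℕ), f * y ^ k * f⁻¹ = y ^ (k * m) := by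
    intro k
    have : f * y ^ k * f⁻¹ = (f * y * f⁻¹) ^ k := by
      simp [conj_pow]
    rw [this, h, ← pow_mul, mul_comm]
  induction j generalizing k with
  | zero => simp
  | succ j ih =>
    have e : f ^ (j + 1) * y ^ k * (f ^ (j + 1))⁻¹ = f ^ j * (f * y ^ k * f⁻¹) * (f ^ j)⁻¹ := by
      rw [pow_succ]
      group
    rw [e, hk, ih]
    congr 1
    ring

/-- A bijection on a finite subgroup. -/
theorem exists_conj_preimage [Finite Γ] {Q : Subgroup Γ} {h : Γ} (hQ : ∀ q ∈ Q, h * q * h⁻¹ ∈ Q) {y : Γ} (hy : y ∈ Q) :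
    ∃ q ∈ Q, h * q * h⁻¹ = y := by
  have hn := mem_norm_of_conj hQ
  refine ⟨h⁻¹ * y * h, ?_, by group⟩
  have := (hn (h⁻¹ * y * h)).mpr (by
    have e : h * (h⁻¹ * y * h) * h⁻¹ = y := by group
    rw [e]
    exact hy)
  exact this

end gen2

section mats

variable {K : Type*} [Field K] {n : ℕ}

open Matrix

/-- A matrix commuting with a diagonal matrix. -/
theorem comm_diag {M : Matrix (Fin n) (Fin n) K} {d : Fin n → K} (h : M * Matrix.diagonal d = Matrix.diagonal d * M)
    {i j : Fin n} (hd : d i ≠ d j) : M i j = 0 := by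
  have := congrFun (congrFun h i) j
  rw [Matrix.mul_diagonal, Matrix.diagonal_mul] at this
  have h2 : M i j * (d j - d i) = 0 := by
    rw [mul_sub, this]
    ring
  rcases mul_eq_zero.mp h2 with h3 | h3
  · exact h3
  · exact absurd (sub_eq_zero.mp h3).symm hd

/-- The edge of the scalar lemma. -/
theorem comm_edge {M X : Matrix (Fin n) (Fin n) K} (h : M * X = X * M) {i j : Fin n}
    (hi : ∀ k, k ≠ i → M i k = 0) (hj : ∀ k, k ≠ j → M k j = 0) (hx : X i j ≠ 0) : M i i = M j j := by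
  have := congrFun (congrFun h i) j
  rw [Matrix.mul_apply, Matrix.mul_apply, Finset.sum_eq_single i, Finset.sum_eq_single j] at this
  · have h2 : X i j * M i i = X i j * M j j := by
      rw [mul_comm, this]
    exact mul_left_cancel₀ hx h2
  · intro b _ hb
    rw [hj b hb, mul_zero]
  · intro hb
    exact absurd (Finset.mem_univ _) hb
  · intro b _ hb
    rw [hi b hb, zero_mul]
  · intro hb
    exact absurd (Finset.mem_univ _) hb

/-- The row of the scalar lemma, in the block of the first two coordinates. -/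
theorem comm_row {M X : Matrix (Fin n) (Fin n) K} (h : M * X = X * M) {i j a b : Fin n} (hab : a ≠ b)
    (hi : ∀ k, k ≠ i → M i k = 0) (hj : ∀ k, k ≠ a → k ≠ b → M k j = 0) :
    M i i * X i j = X i a * M a j + X i b * M b j := by
  have := congrFun (congrFun h i) j
  rw [Matrix.mul_apply, Matrix.mul_apply, Finset.sum_eq_single i,
    Finset.sum_eq_add a b hab] at this
  · exact this
  · rintro c _ ⟨h1, h2⟩
    rw [hj c h1 h2, mul_zero]
  · intro hb
    exact absurd (Finset.mem_univ _) hb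
  · intro hb
    exact absurd (Finset.mem_univ _) hb
  · intro b _ hb
    rw [hi b hb, zero_mul]
  · intro hb
    exact absurd (Finset.mem_univ _) hb

end mats

end Cfsg.Agent.Lib.LyOut
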