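import Mathlib
import Cfsg.Agent.Lib.LyDce.Final
import Cfsg.Agent.Lib.LyOut.Gen2

/-!
# The presented Lyons group: the facts used from the coset enumeration
-/

set_option autoImplicit false
set_option maxRecDepth 100000
set_option linter.all false
set_option Elab.async false
set_option maxHeartbeats 0

namespace Cfsg.Agent.Lib.LyOut

open Cfsg Cfsg.Spor Cfsg.Lie Cfsg.Agent.Lib.TcFacts Cfsg.Agent.Lib.TcBits Cfsg.Agent.Lib.TcPres
  Cfsg.Agent.Lib.TcRel Cfsg.Agent.Lib.TcChain Cfsg.Spor.Ly Cfsg.Agent.Lib.ChevG25 Cfsg.Agent.Lib.FpVec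
  Cfsg.Agent.Lib.LyG25 Cfsg.Agent.Lib.LyDce

instance finite_G' : Finite G := finite_G

theorem card_G' : Nat.card G = 51765179004000000 := card_G

theorem card_HB' : Nat.card HB = 5859000000 := card_HB

theorem hcov' : ∀ g : G, ∃ k : Fin 5, ∃ η ∈ HB, ∃ h ∈ HB, g = η * W k * h := hcov

theorem simple_HB' : IsSimpleGroup HB := simple_HB

theorem hgen' : Subgroup.closure ((HB : Set G) ∪ {Z}) = ⊤ := hgen

theorem A_le' (k : ℕ) : A k ≤ HB := A_le k

theorem card_A_mul (k : ℕ) : Nat.card (A k) * (A k).relIndex HB = 5859000000 := by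
  have h1 := Subgroup.card_mul_index ((A k).subgroupOf HB)
  have h2 : Nat.card ((A k).subgroupOf HB) = Nat.card (A k) :=
    Nat.card_congr (Subgroup.subgroupOfEquivOfLe (A_le k)).toEquiv
  rw [h2, card_HB] at h1
  exact h1

theorem card_A1' : Nat.card (A 1) = 300000 := by
  have h1 := card_A_mul 1
  have h2 : (A 1).relIndex HB = 19530 := rel_eq 1
  rw [h2] at h1
  exact Nat.eq_of_mul_eq_mul_right (by norm_num : 0 < 19530) (h1.trans (by norm_num : 5859000000 = 300000 * 19530))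

theorem card_A2' : Nat.card (A 2) = 6048 := by
  have h1 := card_A_mul 2
  have h2 : (A 2).relIndex HB = 968750 := rel_eq 2
  rw [h2] at h1
  exact Nat.eq_of_mul_eq_mul_right (by norm_num : 0 < 968750) (h1.trans (by norm_num : 5859000000 = 6048 * 968750))

theorem card_A3' : Nat.card (A 3) = 1008 := by
  have h1 := card_A_mul 3
  have h2 : (A 3).relIndex HB = 5812500 := rel_eq 3
  rw [h2] at h1
  exact Nat.eq_of_mul_eq_mul_right (by norm_num : 0 < 5812500) (h1.trans (by norm_num : 5859000000 = 1008 * 5812500))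

theorem card_A4' : Nat.card (A 4) = 2880 := by
  have h1 := card_A_mul 4
  have h2 : (A 4).relIndex HB = 2034375 := rel_eq 4
  rw [h2] at h1
  exact Nat.eq_of_mul_eq_mul_right (by norm_num : 0 < 2034375) (h1.trans (by norm_num : 5859000000 = 2880 * 2034375))

theorem A1_form {y : G} (hy : y ∈ A 1) : ∃ κ ∈ KK, y = Z⁻¹ * κ * Z := by
  let f : KK → A 1 := fun κ => ⟨Z⁻¹ * κ * Z, by
    refine mem_A.mpr ⟨(KK_props κ.2).2, ?_⟩
    have e : W 1 * (Z⁻¹ * (κ : G) * Z) * (W 1)⁻¹ = κ := by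
      show Z * (Z⁻¹ * (κ : G) * Z) * Z⁻¹ = κ
      group
    rw [e]
    exact (KK_props κ.2).1⟩
  have hf : Function.Injective f := by
    intro a b e
    have e1 : Z⁻¹ * (a : G) * Z = Z⁻¹ * (b : G) * Z := congrArg Subtype.val e
    exact Subtype.ext (by simpa using e1)
  have hb := hf.bijective_of_nat_card_le (by rw [card_A1']; exact card_KK)
  obtain ⟨κ, hκ⟩ := hb.2 ⟨y, hy⟩
  exact ⟨κ, κ.2, (congrArg Subtype.val hκ).symm⟩

theorem gen_conj_aux (x : Gen) (i : ℕ) (h : exL x = kLet i) (hi : i < 16) :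
    Z⁻¹ * (PresentedGroup.of x : G) * Z = eh (tLet i) := by
  have h1 : (PresentedGroup.of x : G) = eh (kLet i) := by
    have h2 : (PresentedGroup.of x : G) = ez (exL x) := good_all x
    rw [h2, h]
    exact lt8_ez (K_lt i hi).1
  rw [h1, mul_assoc, K_letter i]
  group

/-- A subgroup normalised by the generators of the intersection is normalised by it. -/
theorem A1_norm (Q : Subgroup G) (h : ∀ j, j < 8 → ∀ q ∈ Q, eh (tLet (2 * j)) * q * (eh (tLet (2 * j)))⁻¹ ∈ Q) :
    ∀ y ∈ A 1, ∀ q ∈ Q, y * q * y⁻¹ ∈ Q := by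
  intro y hy q hq
  obtain ⟨κ, hκ, rfl⟩ := A1_form hy
  let S' : Set G := {g | ∃ j, j < 8 ∧ g = eh (tLet (2 * j))}
  have hle : KK ≤ (Subgroup.closure S').comap (MulAut.conj Z⁻¹).toMonoidHom := by
    apply (Subgroup.closure_le _).2
    rintro _ ⟨x, hx, rfl⟩
    have hx' : x ∈ Cfsg.Agent.TcData.Ly.K1.TL := hx
    show (MulAut.conj Z⁻¹) (PresentedGroup.of x : G) ∈ Subgroup.closure S'
    rw [MulAut.conj_apply, inv_inv]
    apply Subgroup.subset_closure
    simp only [Cfsg.Agent.TcData.Ly.K1.TL, List.mem_cons, List.not_mem_nil, or_false] at hx'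
    rcases hx' with rfl | rfl | rfl | rfl | rfl | rfl | rfl | rfl
    · exact ⟨5, by norm_num, gen_conj_aux _ 10 rfl (by norm_num)⟩
    · exact ⟨6, by norm_num, gen_conj_aux _ 12 rfl (by norm_num)⟩
    · exact ⟨7, by norm_num, gen_conj_aux _ 14 rfl (by norm_num)⟩
    · exact ⟨0, by norm_num, gen_conj_aux _ 0 rfl (by norm_num)⟩
    · exact ⟨1, by norm_num, gen_conj_aux _ 2 rfl (by norm_num)⟩
    · exact ⟨2, by norm_num, gen_conj_aux _ 4 rfl (by norm_num)⟩
    · exact ⟨3, by norm_num, gen_conj_aux _ 6 rfl (by norm_num)⟩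
    · exact ⟨4, by norm_num, gen_conj_aux _ 8 rfl (by norm_num)⟩
  have h2 : (MulAut.conj Z⁻¹) κ ∈ Subgroup.closure S' := hle hκ
  rw [MulAut.conj_apply, inv_inv] at h2
  exact closure_conj S' Q (by
    rintro _ ⟨j, hj, rfl⟩ q hq
    exact h j hj q hq) _ h2 q hq

end Cfsg.Agent.Lib.LyOut
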