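import Mathlib
import Cfsg.Agent.Lib.LyOut.Basic
import Cfsg.Agent.Lib.LyOut.Gen2
import Cfsg.Agent.Lib.VecOrb

/-!
# The presented Lyons group: the Borel subgroup of `G₂(5)`, by relations among root elements
-/

set_option autoImplicit false
set_option maxRecDepth 100000
set_option linter.all false
set_option Elab.async false
set_option maxHeartbeats 0
set_option synthInstance.maxHeartbeats 0
set_option synthInstance.maxSize 100000

namespace Cfsg.Agent.Lib.LyOut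

open Cfsg Cfsg.Spor Cfsg.Lie Cfsg.Agent.Lib.FpVec Cfsg.Agent.Lib.ChevG25 Cfsg.Agent.Lib.LyG25
  Cfsg.Agent.Lib.LyDce Matrix

/-- The root element `x_r(1)`. -/
noncomputable def xr (r : ℕ) : G := XX (r, 1)

theorem XX_mod (r t : ℕ) : XX (r, t % 5) = XX (r, t) :=
  eq_of_code (R_XX _) (R_XX _) (by simp [cX, Nat.mod_mod])

theorem XX_zero {r : ℕ} (hr : r < 12) : XX (r, 0) = 1 := eq_of_code (R_XX _) R.one (tab_zero r hr)

theorem XX_add {r : ℕ} (hr : r < 12) (a b : ℕ) : XX (r, a) * XX (r, b) = XX (r, a + b) := by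
  have h1 := (R_XX (r, a % 5)).mul (R_XX (r, b % 5))
  rw [tab_add r hr (a % 5) (Nat.mod_lt _ (by norm_num)) (b % 5) (Nat.mod_lt _ (by norm_num)), XX_mod, XX_mod] at h1
  have e3 : cX (r, a % 5 + b % 5) = cX (r, a + b) := by
    simp [cX, Nat.add_mod]
  rw [e3] at h1
  exact R.unique h1 (R_XX _)

theorem xr_pow {r : ℕ} (hr : r < 12) (n : ℕ) : xr r ^ n = XX (r, n) := by
  induction n with
  | zero => rw [pow_zero, XX_zero hr]
  | succ n ih => rw [pow_succ, ih, xr, XX_add hr]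

theorem xr_pow5 {r : ℕ} (hr : r < 12) : xr r ^ 5 = 1 := by
  rw [xr_pow hr, ← XX_mod, XX_zero hr]

theorem xr_pow_mod {r : ℕ} (hr : r < 12) (n : ℕ) : xr r ^ (n % 5) = xr r ^ n := by
  rw [xr_pow hr, xr_pow hr, XX_mod]

theorem rel_ew {a b : List (ℕ × ℕ)} (h : cw a = cw b) : ew a = ew b := eq_of_code (R_ew a) (R_ew b) h

theorem ew_ne_one {w : List (ℕ × ℕ)} (h : mM (cw w) ≠ 1) : ew w ≠ 1 := by
  intro e
  apply h
  have h2 := M14_of_R (R_ew w)
  rw [e, M14_one] at h2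
  exact h2.symm

theorem xr_ne_code : ∀ r, r < 12 → mM (cw [(r, 1)]) ≠ 1 := by decide +kernel

theorem xr_ne_one {r : ℕ} (hr : r < 12) : xr r ≠ 1 := by
  have := ew_ne_one (xr_ne_code r hr)
  simpa [ew, xr] using this

theorem xr_order {r : ℕ} (hr : r < 12) : orderOf (xr r) = 5 := by
  haveI : Fact (Nat.Prime 5) := ⟨by norm_num⟩
  exact orderOf_eq_prime (xr_pow5 hr) (xr_ne_one hr)

theorem xr_pow_inj {r : ℕ} (hr : r < 12) {a b : ℕ} (h : xr r ^ a = xr r ^ b) : a % 5 = b % 5 := by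
  have := pow_eq_pow_iff_modEq.mp h
  rw [xr_order hr] at this
  exact this

theorem ew_mem_of (Q : Subgroup G) {l : List (ℕ × ℕ)} (h : ∀ p ∈ l, XX p ∈ Q) : ew l ∈ Q := by
  induction l with
  | nil => exact Q.one_mem
  | cons p l ih =>
    rw [ew_cons]
    exact Q.mul_mem (h p List.mem_cons_self) (ih fun q hq => h q (List.mem_cons_of_mem _ hq))

theorem XX_mem_of (Q : Subgroup G) {r : ℕ} (hr : r < 12) (h : xr r ∈ Q) (t : ℕ) : XX (r, t) ∈ Q := by
  rw [← xr_pow hr]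
  exact Q.pow_mem h t

/-! ### The relations -/

theorem comm_xr {r s : ℕ} (h : (r, s) ∈ [(6,8),(6,9),(8,10),(9,10),(11,6),(11,7),(11,8),(11,9),(11,10)]) :
    xr r * xr s = xr s * xr r := by
  have := rel_ew (comm_rel (r, s) h)
  simpa [ew, xr] using this

theorem c68 : Commute (xr 6) (xr 8) := comm_xr (by decide)
theorem c69 : Commute (xr 6) (xr 9) := comm_xr (by decide)
theorem c810 : Commute (xr 8) (xr 10) := comm_xr (by decide)
theorem c910 : Commute (xr 9) (xr 10) := comm_xr (by decide)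
theorem c116 : Commute (xr 11) (xr 6) := comm_xr (by decide)
theorem c117 : Commute (xr 11) (xr 7) := comm_xr (by decide)
theorem c118 : Commute (xr 11) (xr 8) := comm_xr (by decide)
theorem c119 : Commute (xr 11) (xr 9) := comm_xr (by decide)
theorem c1110 : Commute (xr 11) (xr 10) := comm_xr (by decide)

theorem r98 : xr 9 * xr 8 = xr 8 * xr 9 * xr 11 ^ 2 := by
  have := rel_ew rel98
  rw [xr_pow (by norm_num)]
  simpa [ew, xr, mul_assoc] using this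

theorem r106 : xr 10 * xr 6 = xr 6 * xr 10 * xr 11 ^ 4 := by
  have := rel_ew rel106
  rw [xr_pow (by norm_num)]
  simpa [ew, xr, mul_assoc] using this

/-- The radical of one parabolic subgroup. -/
noncomputable def Qa : Subgroup G := Subgroup.closure {xr 6, xr 8, xr 9, xr 10, xr 11}

/-- The Sylow subgroup. -/
noncomputable def Pp : Subgroup G := Subgroup.closure {xr 7, xr 6}

theorem x6_Qa : xr 6 ∈ Qa := Subgroup.subset_closure (by simp)
theorem x8_Qa : xr 8 ∈ Qa := Subgroup.subset_closure (by simp)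
theorem x9_Qa : xr 9 ∈ Qa := Subgroup.subset_closure (by simp)
theorem x10_Qa : xr 10 ∈ Qa := Subgroup.subset_closure (by simp)
theorem x11_Qa : xr 11 ∈ Qa := Subgroup.subset_closure (by simp)
theorem x7_Pp : xr 7 ∈ Pp := Subgroup.subset_closure (by simp)
theorem x6_Pp : xr 6 ∈ Pp := Subgroup.subset_closure (by simp)

theorem XX_Qa {r : ℕ} (hr : r = 6 ∨ r = 8 ∨ r = 9 ∨ r = 10 ∨ r = 11) (t : ℕ) : XX (r, t) ∈ Qa := by
  rcases hr with rfl | rfl | rfl | rfl | rfl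
  · exact XX_mem_of _ (by norm_num) x6_Qa t
  · exact XX_mem_of _ (by norm_num) x8_Qa t
  · exact XX_mem_of _ (by norm_num) x9_Qa t
  · exact XX_mem_of _ (by norm_num) x10_Qa t
  · exact XX_mem_of _ (by norm_num) x11_Qa t

theorem muw_Qa (a b c d e : ℕ) : ew (muw a b c d e) ∈ Qa := by
  apply ew_mem_of
  intro p hp
  simp only [muw, List.mem_cons, List.not_mem_nil, or_false] at hp
  rcases hp with rfl | rfl | rfl | rfl | rfl
  · exact XX_Qa (by norm_num) _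
  · exact XX_Qa (by norm_num) _
  · exact XX_Qa (by norm_num) _
  · exact XX_Qa (by norm_num) _
  · exact XX_Qa (by norm_num) _

/-- The normal form in the radical. -/
noncomputable def mu (a b c d e : ℕ) : G := xr 6 ^ a * xr 8 ^ b * xr 9 ^ c * xr 10 ^ d * xr 11 ^ e

theorem mu_mem (a b c d e : ℕ) : mu a b c d e ∈ Qa :=
  Qa.mul_mem (Qa.mul_mem (Qa.mul_mem (Qa.mul_mem (Qa.pow_mem x6_Qa _) (Qa.pow_mem x8_Qa _))
    (Qa.pow_mem x9_Qa _)) (Qa.pow_mem x10_Qa _)) (Qa.pow_mem x11_Qa _)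

theorem mu_mod (a b c d e : ℕ) : mu (a % 5) (b % 5) (c % 5) (d % 5) (e % 5) = mu a b c d e := by
  simp only [mu]
  rw [xr_pow_mod (by norm_num), xr_pow_mod (by norm_num), xr_pow_mod (by norm_num), xr_pow_mod (by norm_num),
    xr_pow_mod (by norm_num)]

section withFinite

variable [hfin : Finite G]

theorem Qa_form : ∀ y ∈ Qa, ∃ a b c d e : ℕ, y = mu a b c d e :=
  five_normal c68 c69 c810 c910 c116 c118 c119 c1110 r98 r106

/-- `x₇` normalises the radical. -/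
theorem x7_conj_gen : ∀ s ∈ ({xr 6, xr 8, xr 9, xr 10, xr 11} : Set G), (xr 7)⁻¹ * s * ((xr 7)⁻¹)⁻¹ ∈ Qa := by
  have key : ∀ q ∈ [(6,(1,1,1,4,4)), (8,(0,1,2,2,2)), (9,(0,0,1,2,0)), (10,(0,0,0,1,0)), (11,(0,0,0,0,1))],
      (xr 7)⁻¹ * xr q.1 * ((xr 7)⁻¹)⁻¹ ∈ Qa := by
    intro q hq
    have h1 := rel_ew (x7_rel q hq)
    have h2 : xr q.1 * xr 7 = xr 7 * ew (muw q.2.1 q.2.2.1 q.2.2.2.1 q.2.2.2.2.1 q.2.2.2.2.2) := by
      have e : ew (muw q.2.1 q.2.2.1 q.2.2.2.1 q.2.2.2.2.1 q.2.2.2.2.2) =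
          XX (6, q.2.1) * XX (8, q.2.2.1) * XX (9, q.2.2.2.1) * XX (10, q.2.2.2.2.1) * XX (11, q.2.2.2.2.2) := by
        simp [ew, muw, mul_assoc]
      rw [e]
      simpa [ew, xr, mul_assoc, muw] using h1
    have h3 : (xr 7)⁻¹ * xr q.1 * ((xr 7)⁻¹)⁻¹ = ew (muw q.2.1 q.2.2.1 q.2.2.2.1 q.2.2.2.2.1 q.2.2.2.2.2) := by
      rw [inv_inv, mul_assoc, h2, inv_mul_cancel_left]
    rw [h3]
    exact muw_Qa _ _ _ _ _
  intro s hs
  simp only [Set.mem_insert_iff, Set.mem_singleton_iff] at hs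
  rcases hs with rfl | rfl | rfl | rfl | rfl
  · exact key (6,(1,1,1,4,4)) (by simp)
  · exact key (8,(0,1,2,2,2)) (by simp)
  · exact key (9,(0,0,1,2,0)) (by simp)
  · exact key (10,(0,0,0,1,0)) (by simp)
  · exact key (11,(0,0,0,0,1)) (by simp)

theorem x7_conj {q : G} (hq : q ∈ Qa) : (xr 7)⁻¹ * q * xr 7 ∈ Qa := by
  have := conj_closure_mem Qa _ _ x7_conj_gen q hq
  simpa using this

theorem x7_pow_conj (s : ℕ) {q : G} (hq : q ∈ Qa) : (xr 7 ^ s)⁻¹ * q * xr 7 ^ s ∈ Qa := by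
  induction s generalizing q with
  | zero => simpa using hq
  | succ s ih =>
    have e : (xr 7 ^ (s + 1))⁻¹ * q * xr 7 ^ (s + 1) = (xr 7)⁻¹ * ((xr 7 ^ s)⁻¹ * q * xr 7 ^ s) * xr 7 := by
      rw [pow_succ]
      group
    rw [e]
    exact x7_conj (ih hq)

/-- The elements of the Sylow subgroup, first form. -/
theorem Pp_form0 : ∀ y ∈ Pp, ∃ s : ℕ, ∃ q ∈ Qa, y = xr 7 ^ s * q := by
  apply closure_subset_of_mul _ {y | ∃ s : ℕ, ∃ q ∈ Qa, y = xr 7 ^ s * q}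
  · exact ⟨0, 1, Qa.one_mem, by simp⟩
  · rintro g hg _ ⟨s, q, hq, rfl⟩
    simp only [Set.mem_insert_iff, Set.mem_singleton_iff] at hg
    rcases hg with rfl | rfl
    · refine ⟨s + 1, q, hq, ?_⟩
      rw [pow_succ']
      group
    · refine ⟨s, (xr 7 ^ s)⁻¹ * xr 6 * xr 7 ^ s * q, Qa.mul_mem (x7_pow_conj s x6_Qa) hq, ?_⟩
      group

/-- The normal form in the Sylow subgroup. -/
noncomputable def nu (s a b c d e : ℕ) : G := xr 7 ^ s * mu a b c d e

theorem Pp_form : ∀ y ∈ Pp, ∃ s a b c d e : ℕ, s < 5 ∧ a < 5 ∧ b < 5 ∧ c < 5 ∧ d < 5 ∧ e < 5 ∧ y = nu s a b c d e := by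
  intro y hy
  obtain ⟨s, q, hq, rfl⟩ := Pp_form0 y hy
  obtain ⟨a, b, c, d, e, rfl⟩ := Qa_form q hq
  refine ⟨s % 5, a % 5, b % 5, c % 5, d % 5, e % 5, Nat.mod_lt _ (by norm_num), Nat.mod_lt _ (by norm_num),
    Nat.mod_lt _ (by norm_num), Nat.mod_lt _ (by norm_num), Nat.mod_lt _ (by norm_num), Nat.mod_lt _ (by norm_num), ?_⟩
  simp only [nu]
  rw [xr_pow_mod (by norm_num), mu_mod]

end withFinite

theorem pL_mem : ∀ i, XX (pL i) ∈ Pp := by
  intro i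
  have h7 : ∀ t, XX (7, t) ∈ Pp := XX_mem_of _ (by norm_num) x7_Pp
  have h6 : ∀ t, XX (6, t) ∈ Pp := XX_mem_of _ (by norm_num) x6_Pp
  match i with
  | 0 => exact h7 _
  | 1 => exact h6 _
  | 2 => exact h7 _
  | n + 3 => exact h6 _

theorem wmap_mem (l : List ℕ) : ew (l.map pL) ∈ Pp := by
  apply ew_mem_of
  intro p hp
  obtain ⟨i, -, rfl⟩ := List.mem_map.mp hp
  exact pL_mem i

theorem xr_word {r : ℕ} {l : List ℕ} (h : cw (l.map pL) = cw [(r, 1)]) : xr r ∈ Pp := by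
  have e := rel_ew h
  have e2 : ew [(r, 1)] = xr r := by simp [ew, xr]
  rw [← e2, ← e]
  exact wmap_mem l

theorem x8_Pp : xr 8 ∈ Pp := xr_word c_wx8
theorem x9_Pp : xr 9 ∈ Pp := xr_word c_wx9
theorem x10_Pp : xr 10 ∈ Pp := xr_word c_wx10
theorem x11_Pp : xr 11 ∈ Pp := xr_word c_wx11

theorem Qa_le_Pp : Qa ≤ Pp := by
  apply (Subgroup.closure_le _).2
  intro s hs
  simp only [Set.mem_insert_iff, Set.mem_singleton_iff] at hs
  rcases hs with rfl | rfl | rfl | rfl | rfl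
  · exact x6_Pp
  · exact x8_Pp
  · exact x9_Pp
  · exact x10_Pp
  · exact x11_Pp

theorem Pp_le_HB : Pp ≤ HB := by
  apply (Subgroup.closure_le _).2
  intro s hs
  simp only [Set.mem_insert_iff, Set.mem_singleton_iff] at hs
  rcases hs with rfl | rfl
  · exact XX_mem _
  · exact XX_mem _

theorem nu_mem (s a b c d e : ℕ) : nu s a b c d e ∈ Pp :=
  Pp.mul_mem (Pp.pow_mem x7_Pp _) (Qa_le_Pp (mu_mem _ _ _ _ _))

/-! ### Tables of vectors -/

/-- The elements reached from a checked table. -/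
theorem table_elts {n : ℕ} {key par gen dep : ℕ → ℕ} {v0 : ℕ} {gs : List (ℕ × ℕ)} (Q : Subgroup G) (hQ : Q ≤ HB)
    (h : ∀ i, i < n → Cfsg.Agent.Lib.VecOrb.rowOK key par gen dep
      (fun g x => mv 256 5 14 (cX (gs.getD g (0, 0))) x) v0 n i = true)
    (hgs : ∀ p ∈ gs, XX p ∈ Q) (hv : Rd 256 5 v0) (hv2 : v0 < 256 ^ 14) :
    ∃ g : ℕ → G, (∀ i, i < n → g i ∈ Q) ∧
      ∀ i j, i < n → j < n → M14 (g i) *ᵥ decV 256 5 14 v0 = M14 (g j) *ᵥ decV 256 5 14 v0 → i = j := by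
  have hgs' : ∀ g, XX (gs.getD g (0, 0)) ∈ Q := by
    intro g
    by_cases hg : g < gs.length
    · rw [List.getD_eq_getElem _ _ hg]
      exact hgs _ (List.getElem_mem hg)
    · rw [List.getD_eq_default _ _ (by omega), XX_zero (by norm_num)]
      exact Q.one_mem
  have hreach : ∀ i, i < n → ∃ g ∈ Q, Rd 256 5 (key i) ∧ key i < 256 ^ 14 ∧
      decV 256 5 14 (key i) = M14 g *ᵥ decV 256 5 14 v0 := Cfsg.Agent.Lib.VecOrb.reach_all h
    (fun x => ∃ g ∈ Q, Rd 256 5 x ∧ x < 256 ^ 14 ∧ decV 256 5 14 x = M14 g *ᵥ decV 256 5 14 v0)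
    ⟨1, Q.one_mem, hv, hv2, by rw [M14_one, Matrix.one_mulVec]⟩ (by
      rintro g x ⟨y, hy, hx, hx2, e⟩
      have h1 := act_of_R (R_XX (gs.getD g (0, 0))) hx
      refine ⟨XX (gs.getD g (0, 0)) * y, Q.mul_mem (hgs' g) hy, h1.1, mv_lt14' _ _, ?_⟩
      show decV 256 5 14 (mv 256 5 14 (cX (gs.getD g (0, 0))) x) = _
      rw [h1.2, e, M14_mul (XX_mem _) (hQ hy), Matrix.mulVec_mulVec])
  choose! g hg hr hl e using hreach
  refine ⟨g, hg, fun i j hi hj hij => ?_⟩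
  rw [← e i hi, ← e j hj] at hij
  have h3 := code_inj' (hr i hi) (hr j hj) (hl i hi) (hl j hj) hij
  exact Cfsg.Agent.Lib.VecOrb.key_inj h hi hj h3

/-! ### The torus -/

/-- The generators of the torus. -/
noncomputable def t1 : G := ew wT1

noncomputable def t2 : G := ew wT2

theorem t1_HB : t1 ∈ HB := ew_mem _
theorem t2_HB : t2 ∈ HB := ew_mem _

theorem t1_conj {r : ℕ} (h1 : 6 ≤ r) (h2 : r < 12) : t1 * xr r * t1⁻¹ = xr r ^ aa r := by
  have e := rel_ew (t1_rel r h1 h2)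
  rw [ew_append, ew_singleton, ew_cons] at e
  rw [xr_pow (by omega)]
  show ew wT1 * XX (r, 1) * t1⁻¹ = _
  rw [e]
  show XX (r, aa r) * t1 * t1⁻¹ = _
  group

theorem t2_conj {r : ℕ} (h1 : 6 ≤ r) (h2 : r < 12) : t2 * xr r * t2⁻¹ = xr r ^ bb' r := by
  have e := rel_ew (t2_rel r h1 h2)
  rw [ew_append, ew_singleton, ew_cons] at e
  rw [xr_pow (by omega)]
  show ew wT2 * XX (r, 1) * t2⁻¹ = _
  rw [e]
  show XX (r, bb' r) * t2 * t2⁻¹ = _
  group

theorem t12_comm : t1 * t2 = t2 * t1 := by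
  have e := rel_ew t12_rel
  rwa [ew_append, ew_append] at e

theorem t1_pow4 : t1 ^ 4 = 1 := by
  have e := rel_ew (a := wT1 ++ wT1 ++ wT1 ++ wT1) (b := []) t1_four
  rw [ew_append, ew_append, ew_append] at e
  have e2 : ew [] = 1 := rfl
  rw [e2] at e
  show (ew wT1) ^ 4 = 1
  rw [← e]
  simp only [pow_succ, pow_zero, one_mul]

theorem t2_pow4 : t2 ^ 4 = 1 := by
  have e := rel_ew (a := wT2 ++ wT2 ++ wT2 ++ wT2) (b := []) t2_four
  rw [ew_append, ew_append, ew_append] at e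
  have e2 : ew [] = 1 := rfl
  rw [e2] at e
  show (ew wT2) ^ 4 = 1
  rw [← e]
  simp only [pow_succ, pow_zero, one_mul]

/-- The elements of the torus. -/
noncomputable def Tm (i j : ℕ) : G := t1 ^ i * t2 ^ j

/-- The multipliers of the elements of the torus. -/
def cc (r i j : ℕ) : ℕ := bb' r ^ j * aa r ^ i

theorem Tm_conj {r : ℕ} (h1 : 6 ≤ r) (h2 : r < 12) (i j : ℕ) : Tm i j * xr r * (Tm i j)⁻¹ = xr r ^ cc r i j := by
  have e1 := conj_pow_pow' (t2_conj h1 h2) j 1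
  have e2 := conj_pow_pow' (t1_conj h1 h2) i (bb' r ^ j)
  rw [pow_one, one_mul] at e1
  have e : Tm i j * xr r * (Tm i j)⁻¹ = t1 ^ i * (t2 ^ j * xr r * (t2 ^ j)⁻¹) * (t1 ^ i)⁻¹ := by
    simp only [Tm]
    group
  rw [e, e1, e2]
  rfl

theorem Tm_conj_pow {r : ℕ} (h1 : 6 ≤ r) (h2 : r < 12) (i j k : ℕ) :
    Tm i j * xr r ^ k * (Tm i j)⁻¹ = xr r ^ (cc r i j * k) := by
  have e : Tm i j * xr r ^ k * (Tm i j)⁻¹ = (Tm i j * xr r * (Tm i j)⁻¹) ^ k := by
    simp [conj_pow]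
  rw [e, Tm_conj h1 h2, ← pow_mul]

theorem Tm_mod (i j : ℕ) : Tm (i % 4) (j % 4) = Tm i j := by
  have h1 : t1 ^ (i % 4) = t1 ^ i := by
    conv_rhs => rw [← Nat.mod_add_div i 4, pow_add, pow_mul, t1_pow4, one_pow, mul_one]
  have h2 : t2 ^ (j % 4) = t2 ^ j := by
    conv_rhs => rw [← Nat.mod_add_div j 4, pow_add, pow_mul, t2_pow4, one_pow, mul_one]
  simp only [Tm]
  rw [h1, h2]

/-- The torus. -/
noncomputable def Tt : Subgroup G := Subgroup.closure {t1, t2}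

theorem Tm_mem (i j : ℕ) : Tm i j ∈ Tt :=
  Tt.mul_mem (Tt.pow_mem (Subgroup.subset_closure (by simp)) _) (Tt.pow_mem (Subgroup.subset_closure (by simp)) _)

theorem Tt_form [Finite G] : ∀ y ∈ Tt, ∃ i j : ℕ, i < 4 ∧ j < 4 ∧ y = Tm i j := by
  have key : ∀ y ∈ Tt, ∃ i j : ℕ, y = Tm i j := by
    apply closure_subset_of_mul _ {y | ∃ i j : ℕ, y = Tm i j}
    · exact ⟨0, 0, by simp [Tm]⟩
    · rintro g hg _ ⟨i, j, rfl⟩
      simp only [Set.mem_insert_iff, Set.mem_singleton_iff] at hg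
      rcases hg with rfl | rfl
      · refine ⟨i + 1, j, ?_⟩
        simp only [Tm]
        rw [pow_succ']
        group
      · refine ⟨i, j + 1, ?_⟩
        simp only [Tm]
        have h : t2 * t1 ^ i = t1 ^ i * t2 := (Commute.pow_right (show Commute t2 t1 from t12_comm.symm) i).eq
        rw [pow_succ', ← mul_assoc, h]
        group
  intro y hy
  obtain ⟨i, j, rfl⟩ := key y hy
  exact ⟨i % 4, j % 4, Nat.mod_lt _ (by norm_num), Nat.mod_lt _ (by norm_num), (Tm_mod i j).symm⟩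

theorem cc_sep : ∀ i, i < 4 → ∀ j, j < 4 → ∀ i', i' < 4 → ∀ j', j' < 4 →
    cc 7 i j % 5 = cc 7 i' j' % 5 → cc 6 i j % 5 = cc 6 i' j' % 5 → i = i' ∧ j = j' := by decide +kernel

theorem Tm_inj {i j i' j' : ℕ} (hi : i < 4) (hj : j < 4) (hi' : i' < 4) (hj' : j' < 4) (e : Tm i j = Tm i' j') :
    i = i' ∧ j = j' := by
  have h7 : xr 7 ^ cc 7 i j = xr 7 ^ cc 7 i' j' := by
    rw [← Tm_conj (by norm_num) (by norm_num), ← Tm_conj (by norm_num) (by norm_num), e]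
  have h6 : xr 6 ^ cc 6 i j = xr 6 ^ cc 6 i' j' := by
    rw [← Tm_conj (by norm_num) (by norm_num), ← Tm_conj (by norm_num) (by norm_num), e]
  exact cc_sep i hi j hj i' hi' j' hj' (xr_pow_inj (by norm_num) h7) (xr_pow_inj (by norm_num) h6)

theorem card_Tt [Finite G] : Nat.card Tt = 16 := by
  let f : Fin 4 × Fin 4 → Tt := fun q => ⟨Tm q.1 q.2, Tm_mem _ _⟩
  have hf : Function.Bijective f := by
    constructor
    · rintro ⟨a, b⟩ ⟨c, d⟩ e
      have e1 : Tm a b = Tm c d := congrArg Subtype.val e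
      obtain ⟨h1, h2⟩ := Tm_inj a.2 b.2 c.2 d.2 e1
      exact Prod.ext (Fin.ext h1) (Fin.ext h2)
    · rintro ⟨y, hy⟩
      obtain ⟨i, j, hi, hj, rfl⟩ := Tt_form y hy
      exact ⟨(⟨i, hi⟩, ⟨j, hj⟩), rfl⟩
  rw [← Nat.card_congr (Equiv.ofBijective f hf)]
  simp

end Cfsg.Agent.Lib.LyOut
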