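import Mathlib
import Cfsg.Agent.Lib.LyOut.Struct
import Cfsg.Agent.Lib.LyOut.Code2
import Cfsg.Agent.Lib.LyOut.PTab
import Cfsg.Agent.Lib.LyOut.ETab
import Cfsg.Agent.Lib.LyOut.Facts

/-!
# The presented Lyons group: the normaliser of the Sylow 5-subgroup
-/

set_option autoImplicit false
set_option maxRecDepth 100000
set_option linter.all false
set_option Elab.async false
set_option maxHeartbeats 0
set_option synthInstance.maxHeartbeats 0
set_option synthInstance.maxSize 100000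

namespace Cfsg.Agent.Lib.LyOut

open Cfsg Cfsg.Spor Cfsg.Lie Cfsg.Agent.Lib.FpVec Cfsg.Agent.Lib.ChevG25 Cfsg.Agent.Lib.LyG25
  Cfsg.Agent.Lib.LyDce Cfsg.Agent.Lib.VecOrb Matrix

theorem allR_le' {F : ℕ → Bool} {d : ℕ} (h : allR F d 0 = true) {n : ℕ} (hn : n ≤ 2 ^ d) :
    ∀ i, i < n → F i = true := fun i hi => allR_spec F d 0 h i (Nat.zero_le _) (by omega)

theorem card_Pp_ge : 15625 ≤ Nat.card Pp := by
  obtain ⟨g, hg, hinj⟩ := table_elts (n := 15625) (gs := PTab.gs) (v0 := PTab.v0) Pp Pp_le_HB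
    (allR_le' PTab.hF (by norm_num)) (by
      intro p hp
      simp only [PTab.gs, List.mem_cons, List.not_mem_nil, or_false] at hp
      rcases hp with rfl | rfl
      · exact x7_Pp
      · exact x6_Pp)
    (rd_of_redu' (by decide +kernel)) (lt_of_redu' (by decide +kernel))
  let f : Fin 15625 → Pp := fun i => ⟨g i, hg i i.2⟩
  have hf : Function.Injective f := by
    intro i j e
    have e1 : g i = g j := congrArg Subtype.val e
    exact Fin.ext (hinj i j i.2 j.2 (by rw [e1]))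
  have := Nat.card_le_card_of_injective f hf
  simpa using this

/-- The exponents of the normal form. -/
abbrev F6 := Fin 5 × Fin 5 × Fin 5 × Fin 5 × Fin 5 × Fin 5

noncomputable def nuF (q : F6) : Pp :=
  ⟨nu q.1 q.2.1 q.2.2.1 q.2.2.2.1 q.2.2.2.2.1 q.2.2.2.2.2, nu_mem _ _ _ _ _ _⟩

theorem nuF_surj : Function.Surjective nuF := by
  rintro ⟨y, hy⟩
  obtain ⟨s, a, b, c, d, e, hs, ha, hb, hc, hd, he, rfl⟩ := Pp_form y hy
  exact ⟨(⟨s, hs⟩, ⟨a, ha⟩, ⟨b, hb⟩, ⟨c, hc⟩, ⟨d, hd⟩, ⟨e, he⟩), rfl⟩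

theorem card_F6 : Nat.card F6 = 15625 := by
  simp [F6]

theorem nuF_bij : Function.Bijective nuF :=
  nuF_surj.bijective_of_nat_card_le (by rw [card_F6]; exact card_Pp_ge)

theorem card_Pp : Nat.card Pp = 15625 := by
  rw [← card_F6]
  exact (Nat.card_congr (Equiv.ofBijective _ nuF_bij)).symm

theorem nu_inj {s a b c d e s' a' b' c' d' e' : ℕ} (hs : s < 5) (ha : a < 5) (hb : b < 5) (hc : c < 5) (hd : d < 5)
    (he : e < 5) (hs' : s' < 5) (ha' : a' < 5) (hb' : b' < 5) (hc' : c' < 5) (hd' : d' < 5) (he' : e' < 5)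
    (h : nu s a b c d e = nu s' a' b' c' d' e') : s = s' ∧ a = a' ∧ b = b' ∧ c = c' ∧ d = d' ∧ e = e' := by
  have h1 := nuF_bij.1 (a₁ := (⟨s, hs⟩, ⟨a, ha⟩, ⟨b, hb⟩, ⟨c, hc⟩, ⟨d, hd⟩, ⟨e, he⟩))
    (a₂ := (⟨s', hs'⟩, ⟨a', ha'⟩, ⟨b', hb'⟩, ⟨c', hc'⟩, ⟨d', hd'⟩, ⟨e', he'⟩)) (Subtype.ext h)
  simpa [Prod.ext_iff, Fin.ext_iff] using h1

theorem nu_mod (s a b c d e : ℕ) : nu (s % 5) (a % 5) (b % 5) (c % 5) (d % 5) (e % 5) = nu s a b c d e := by
  simp only [nu]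
  rw [xr_pow_mod (by norm_num), mu_mod]

theorem nu_inj' {s a b c d e s' a' b' c' d' e' : ℕ} (h : nu s a b c d e = nu s' a' b' c' d' e') :
    s % 5 = s' % 5 ∧ a % 5 = a' % 5 ∧ b % 5 = b' % 5 ∧ c % 5 = c' % 5 ∧ d % 5 = d' % 5 ∧ e % 5 = e' % 5 := by
  rw [← nu_mod, ← nu_mod s' a' b' c' d' e'] at h
  have hm : ∀ n : ℕ, n % 5 < 5 := fun n => Nat.mod_lt _ (by norm_num)
  exact nu_inj (hm _) (hm _) (hm _) (hm _) (hm _) (hm _) (hm _) (hm _) (hm _) (hm _) (hm _) (hm _) h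

theorem nu_zero (a b c d e : ℕ) : nu 0 a b c d e = mu a b c d e := by simp [nu]

/-- The order of the radical. -/
theorem card_Qa : Nat.card Qa = 3125 := by
  let f : Fin 5 × Fin 5 × Fin 5 × Fin 5 × Fin 5 → Qa := fun q =>
    ⟨mu q.1 q.2.1 q.2.2.1 q.2.2.2.1 q.2.2.2.2, mu_mem _ _ _ _ _⟩
  have hf : Function.Bijective f := by
    constructor
    · rintro ⟨a, b, c, d, e⟩ ⟨a', b', c', d', e'⟩ h
      have h1 : mu a b c d e = mu a' b' c' d' e' := congrArg Subtype.val h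
      rw [← nu_zero, ← nu_zero] at h1
      have h2 := nu_inj (by norm_num) a.2 b.2 c.2 d.2 e.2 (by norm_num) a'.2 b'.2 c'.2 d'.2 e'.2 h1
      simpa [Prod.ext_iff, Fin.ext_iff] using h2.2
    · rintro ⟨y, hy⟩
      obtain ⟨a, b, c, d, e, rfl⟩ := Qa_form y hy
      have hm : ∀ n : ℕ, n % 5 < 5 := fun n => Nat.mod_lt _ (by norm_num)
      exact ⟨(⟨a % 5, hm a⟩, ⟨b % 5, hm b⟩, ⟨c % 5, hm c⟩, ⟨d % 5, hm d⟩, ⟨e % 5, hm e⟩),
        Subtype.ext (mu_mod a b c d e)⟩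
  rw [← Nat.card_congr (Equiv.ofBijective f hf)]
  simp

/-- A subgroup of order `25`. -/
noncomputable def Ee : Subgroup G := Subgroup.closure {xr 10, xr 11}

theorem card_Ee : Nat.card Ee = 25 := by
  have hmem : ∀ d e : ℕ, xr 10 ^ d * xr 11 ^ e ∈ Ee := fun d e =>
    Ee.mul_mem (Ee.pow_mem (Subgroup.subset_closure (by simp)) _) (Ee.pow_mem (Subgroup.subset_closure (by simp)) _)
  let f : Fin 5 × Fin 5 → Ee := fun q => ⟨xr 10 ^ (q.1 : ℕ) * xr 11 ^ (q.2 : ℕ), hmem _ _⟩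
  have hnu : ∀ d e : ℕ, xr 10 ^ d * xr 11 ^ e = nu 0 0 0 0 d e := by
    intro d e
    simp [nu, mu]
  have hf : Function.Bijective f := by
    constructor
    · rintro ⟨d, e⟩ ⟨d', e'⟩ h
      have h1 : xr 10 ^ (d : ℕ) * xr 11 ^ (e : ℕ) = xr 10 ^ (d' : ℕ) * xr 11 ^ (e' : ℕ) := congrArg Subtype.val h
      rw [hnu, hnu] at h1
      have h2 := nu_inj (by norm_num) (by norm_num) (by norm_num) (by norm_num) d.2 e.2 (by norm_num) (by norm_num)
        (by norm_num) (by norm_num) d'.2 e'.2 h1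
      simpa [Prod.ext_iff, Fin.ext_iff] using h2.2.2.2.2
    · rintro ⟨y, hy⟩
      have key : ∀ y ∈ Ee, ∃ d e : ℕ, y = xr 10 ^ d * xr 11 ^ e := by
        apply closure_subset_of_mul _ {y | ∃ d e : ℕ, y = xr 10 ^ d * xr 11 ^ e}
        · exact ⟨0, 0, by simp⟩
        · rintro g hg _ ⟨d, e, rfl⟩
          simp only [Set.mem_insert_iff, Set.mem_singleton_iff] at hg
          rcases hg with rfl | rfl
          · refine ⟨d + 1, e, ?_⟩
            rw [pow_succ']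
            group
          · refine ⟨d, e + 1, ?_⟩
            have h : xr 11 * xr 10 ^ d = xr 10 ^ d * xr 11 := (c1110.pow_right d).eq
            rw [pow_succ', ← mul_assoc, h]
            group
      obtain ⟨d, e, rfl⟩ := key y hy
      have hm : ∀ n : ℕ, n % 5 < 5 := fun n => Nat.mod_lt _ (by norm_num)
      refine ⟨(⟨d % 5, hm d⟩, ⟨e % 5, hm e⟩), Subtype.ext ?_⟩
      show xr 10 ^ (d % 5) * xr 11 ^ (e % 5) = _
      rw [xr_pow_mod (by norm_num), xr_pow_mod (by norm_num)]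
  rw [← Nat.card_congr (Equiv.ofBijective f hf)]
  simp

/-! ### Centralisers of elements of the torus -/

theorem Tm_conj_nu (i j s a b c d e : ℕ) : Tm i j * nu s a b c d e * (Tm i j)⁻¹ =
    nu (cc 7 i j * s) (cc 6 i j * a) (cc 8 i j * b) (cc 9 i j * c) (cc 10 i j * d) (cc 11 i j * e) := by
  simp only [nu, mu]
  rw [← Tm_conj_pow (r := 7) (by norm_num) (by norm_num), ← Tm_conj_pow (r := 6) (by norm_num) (by norm_num),
    ← Tm_conj_pow (r := 8) (by norm_num) (by norm_num), ← Tm_conj_pow (r := 9) (by norm_num) (by norm_num),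
    ← Tm_conj_pow (r := 10) (by norm_num) (by norm_num), ← Tm_conj_pow (r := 11) (by norm_num) (by norm_num)]
  group

theorem cent_aux : ∀ i, i < 4 → ∀ j, j < 4 → (i % 2 = 0 ∧ j % 2 = 0) ∨
    ((∀ e, e < 5 → (cc 6 i j * e) % 5 = e → e = 0) ∧ (∀ e, e < 5 → (cc 8 i j * e) % 5 = e → e = 0) ∧
      (∀ e, e < 5 → (cc 9 i j * e) % 5 = e → e = 0) ∧ (∀ e, e < 5 → (cc 10 i j * e) % 5 = e → e = 0) ∧
      (∀ e, e < 5 → (cc 11 i j * e) % 5 = e → e = 0)) ∨
    ((∀ e, e < 5 → (cc 7 i j * e) % 5 = e → e = 0) ∧ (∀ e, e < 5 → (cc 8 i j * e) % 5 = e → e = 0) ∧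
      (∀ e, e < 5 → (cc 9 i j * e) % 5 = e → e = 0) ∧ (∀ e, e < 5 → (cc 10 i j * e) % 5 = e → e = 0) ∧
      (∀ e, e < 5 → (cc 11 i j * e) % 5 = e → e = 0)) ∨
    ((∀ e, e < 5 → (cc 7 i j * e) % 5 = e → e = 0) ∧ (∀ e, e < 5 → (cc 6 i j * e) % 5 = e → e = 0) ∧
      (∀ e, e < 5 → (cc 9 i j * e) % 5 = e → e = 0) ∧ (∀ e, e < 5 → (cc 10 i j * e) % 5 = e → e = 0) ∧
      (∀ e, e < 5 → (cc 11 i j * e) % 5 = e → e = 0)) ∨
    ((∀ e, e < 5 → (cc 7 i j * e) % 5 = e → e = 0) ∧ (∀ e, e < 5 → (cc 6 i j * e) % 5 = e → e = 0) ∧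
      (∀ e, e < 5 → (cc 8 i j * e) % 5 = e → e = 0) ∧ (∀ e, e < 5 → (cc 10 i j * e) % 5 = e → e = 0) ∧
      (∀ e, e < 5 → (cc 11 i j * e) % 5 = e → e = 0)) ∨
    ((∀ e, e < 5 → (cc 7 i j * e) % 5 = e → e = 0) ∧ (∀ e, e < 5 → (cc 6 i j * e) % 5 = e → e = 0) ∧
      (∀ e, e < 5 → (cc 8 i j * e) % 5 = e → e = 0) ∧ (∀ e, e < 5 → (cc 9 i j * e) % 5 = e → e = 0) ∧
      (∀ e, e < 5 → (cc 11 i j * e) % 5 = e → e = 0)) ∨
    ((∀ e, e < 5 → (cc 7 i j * e) % 5 = e → e = 0) ∧ (∀ e, e < 5 → (cc 6 i j * e) % 5 = e → e = 0) ∧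
      (∀ e, e < 5 → (cc 8 i j * e) % 5 = e → e = 0) ∧ (∀ e, e < 5 → (cc 9 i j * e) % 5 = e → e = 0) ∧
      (∀ e, e < 5 → (cc 10 i j * e) % 5 = e → e = 0)) := by
  decide +kernel

/-- The centraliser in the Sylow subgroup of an element of order four of the torus is a root subgroup. -/
theorem cent_P {i j : ℕ} (hi : i < 4) (hj : j < 4) (hne : ¬ (i % 2 = 0 ∧ j % 2 = 0)) {u : G} (hu : u ∈ Pp)
    (hc : Tm i j * u * (Tm i j)⁻¹ = u) : ∃ r m : ℕ, 6 ≤ r ∧ r < 12 ∧ u = xr r ^ m := by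
  obtain ⟨s, a, b, c, d, e, hs, ha, hb, hc', hd, he, rfl⟩ := Pp_form u hu
  rw [Tm_conj_nu] at hc
  obtain ⟨h7, h6, h8, h9, h10, h11⟩ := nu_inj' hc
  rw [Nat.mod_eq_of_lt hs] at h7
  rw [Nat.mod_eq_of_lt ha] at h6
  rw [Nat.mod_eq_of_lt hb] at h8
  rw [Nat.mod_eq_of_lt hc'] at h9
  rw [Nat.mod_eq_of_lt hd] at h10
  rw [Nat.mod_eq_of_lt he] at h11
  rcases cent_aux i hi j hj with h | ⟨p1, p2, p3, p4, p5⟩ | ⟨p1, p2, p3, p4, p5⟩ | ⟨p1, p2, p3, p4, p5⟩ | ⟨p1, p2, p3, p4, p5⟩ |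
    ⟨p1, p2, p3, p4, p5⟩ | ⟨p1, p2, p3, p4, p5⟩
  · exact absurd h hne
  · -- root 7
    have e1 := p1 a ha h6
    have e2 := p2 b hb h8
    have e3 := p3 c hc' h9
    have e4 := p4 d hd h10
    have e5 := p5 e he h11
    subst e1 e2 e3 e4 e5
    exact ⟨7, s, by norm_num, by norm_num, by simp [nu, mu]⟩
  · -- root 6
    have e1 := p1 s hs h7
    have e2 := p2 b hb h8
    have e3 := p3 c hc' h9
    have e4 := p4 d hd h10
    have e5 := p5 e he h11
    subst e1 e2 e3 e4 e5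
    exact ⟨6, a, by norm_num, by norm_num, by simp [nu, mu]⟩
  · have e1 := p1 s hs h7
    have e2 := p2 a ha h6
    have e3 := p3 c hc' h9
    have e4 := p4 d hd h10
    have e5 := p5 e he h11
    subst e1 e2 e3 e4 e5
    exact ⟨8, b, by norm_num, by norm_num, by simp [nu, mu]⟩
  · have e1 := p1 s hs h7
    have e2 := p2 a ha h6
    have e3 := p3 b hb h8
    have e4 := p4 d hd h10
    have e5 := p5 e he h11
    subst e1 e2 e3 e4 e5
    exact ⟨9, c, by norm_num, by norm_num, by simp [nu, mu]⟩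
  · have e1 := p1 s hs h7
    have e2 := p2 a ha h6
    have e3 := p3 b hb h8
    have e4 := p4 c hc' h9
    have e5 := p5 e he h11
    subst e1 e2 e3 e4 e5
    exact ⟨10, d, by norm_num, by norm_num, by simp [nu, mu]⟩
  · have e1 := p1 s hs h7
    have e2 := p2 a ha h6
    have e3 := p3 b hb h8
    have e4 := p4 c hc' h9
    have e5 := p5 d hd h10
    subst e1 e2 e3 e4 e5
    exact ⟨11, e, by norm_num, by norm_num, by simp [nu, mu]⟩

/-! ### Triple commutators -/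

/-- The commutator. -/
def cm {Γ : Type*} [Group Γ] (a b : Γ) : Γ := a * b * a⁻¹ * b⁻¹

theorem map_cm {Γ : Type*} [Group Γ] (α : MulAut Γ) (a b : Γ) : α (cm a b) = cm (α a) (α b) := by
  simp [cm]

theorem XX_inv {r m : ℕ} (hr : r < 12) (hm : m ≤ 5) : (XX (r, m))⁻¹ = XX (r, 5 - m) := by
  apply inv_eq_of_mul_eq_one_right
  rw [XX_add hr]
  have : m + (5 - m) = 5 := by omega
  rw [this, ← XX_mod, XX_zero hr]

theorem ew_w3 (p p' q q' : ℕ × ℕ) (h1 : XX p' = (XX p)⁻¹) (h2 : XX q' = (XX q)⁻¹) :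
    ew (w3 p p' q q') = (cm (XX p) ((cm (XX p) ((cm (XX p) (XX q)))))) := by
  simp only [w3, ew, List.cons_append, List.nil_append, List.append_assoc, List.map_cons, List.map_nil, List.prod_cons,
    List.prod_nil, cm, h1, h2, _root_.mul_inv_rev, inv_inv]
  group

/-- The triple commutator determines the roots. -/
theorem w3_root {r s m n : ℕ} (hr : 6 ≤ r) (hr' : r < 12) (hs : 6 ≤ s) (hs' : s < 12)
    (h : (cm (xr r ^ m) ((cm (xr r ^ m) ((cm (xr r ^ m) (xr s ^ n)))))) ≠ 1) : r = 7 ∧ s = 6 := by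
  -- reduce the exponents
  rw [← xr_pow_mod (by omega) m, ← xr_pow_mod (by omega) n] at h
  have hm : m % 5 < 5 := Nat.mod_lt _ (by norm_num)
  have hn : n % 5 < 5 := Nat.mod_lt _ (by norm_num)
  generalize m % 5 = m' at *
  generalize n % 5 = n' at *
  have hm0 : m' ≠ 0 := by
    rintro rfl
    apply h
    simp [cm]
  have hn0 : n' ≠ 0 := by
    rintro rfl
    apply h
    simp [cm]
  rcases w3_tab (r - 6) (by omega) (s - 6) (by omega) (m' - 1) (by omega) (n' - 1) (by omega) with h1 | h1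
  · omega
  · exfalso
    apply h
    have e1 : r - 6 + 6 = r := by omega
    have e2 : s - 6 + 6 = s := by omega
    have e3 : m' - 1 + 1 = m' := by omega
    have e4 : n' - 1 + 1 = n' := by omega
    have e5 : 4 - (m' - 1) = 5 - m' := by omega
    have e6 : 4 - (n' - 1) = 5 - n' := by omega
    rw [e1, e2, e3, e4, e5, e6] at h1
    have h2 := rel_ew (a := w3 (r, m') (r, 5 - m') (s, n') (s, 5 - n')) (b := []) h1
    rw [ew_w3 _ _ _ _ (XX_inv (by omega) (by omega)).symm (XX_inv (by omega) (by omega)).symm] at h2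
    rw [xr_pow (by omega), xr_pow (by omega)]
    exact h2

theorem w3_76 : (cm (xr 7) ((cm (xr 7) ((cm (xr 7) (xr 6)))))) ≠ 1 := by
  have h := ew_ne_one w3_ne
  rw [ew_w3 _ _ _ _ (XX_inv (by norm_num) (by norm_num)).symm (XX_inv (by norm_num) (by norm_num)).symm] at h
  exact h

/-! ### The stabiliser of the highest line -/

/-- The stabiliser of the highest vector. -/
noncomputable def S0 : Subgroup G where
  carrier := {g | g ∈ HB ∧ M14 g *ᵥ eV 13 = eV 13}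
  mul_mem' := by
    rintro a b ⟨h1, h2⟩ ⟨h3, h4⟩
    refine ⟨HB.mul_mem h1 h3, ?_⟩
    rw [M14_mul h1 h3, ← Matrix.mulVec_mulVec, h4, h2]
  one_mem' := ⟨HB.one_mem, by rw [M14_one, Matrix.one_mulVec]⟩
  inv_mem' := by
    rintro a ⟨h1, h2⟩
    refine ⟨HB.inv_mem h1, ?_⟩
    conv_lhs => rw [← h2]
    rw [Matrix.mulVec_mulVec, M14_inv_mul h1, Matrix.one_mulVec]

theorem S0_le : S0 ≤ HB := fun _ h => h.1

theorem M14_XX (p : ℕ × ℕ) : M14 (XX p) = mM (cX p) := M14_of_R (R_XX p)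

theorem M14_ew (w : List (ℕ × ℕ)) : M14 (ew w) = mM (cw w) := M14_of_R (R_ew w)

theorem Pp_le_S0 : Pp ≤ S0 := by
  apply (Subgroup.closure_le _).2
  intro s hs
  simp only [Set.mem_insert_iff, Set.mem_singleton_iff] at hs
  rcases hs with rfl | rfl
  · exact ⟨XX_mem _, by rw [xr, M14_XX]; exact x7_e13⟩
  · exact ⟨XX_mem _, by rw [xr, M14_XX]; exact x6_e13⟩

/-- The normaliser of the Sylow subgroup. -/
noncomputable abbrev Yy : Subgroup G := Subgroup.normalizer (Pp : Set G)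

theorem Pp_le_Yy : Pp ≤ Yy := by
  rw [Subgroup.le_normalizer_iff]
  intro h hh k hk
  exact Pp.mul_mem (Pp.mul_mem hh hk) (Pp.inv_mem hh)

theorem Tt_le_Yy : Tt ≤ Yy := by
  apply (Subgroup.closure_le _).2
  intro s hs
  simp only [Set.mem_insert_iff, Set.mem_singleton_iff] at hs
  rcases hs with rfl | rfl
  · apply mem_norm_of_conj
    apply conj_closure_mem
    intro s hs
    simp only [Set.mem_insert_iff, Set.mem_singleton_iff] at hs
    rcases hs with rfl | rfl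
    · rw [t1_conj (by norm_num) (by norm_num)]
      exact Pp.pow_mem x7_Pp _
    · rw [t1_conj (by norm_num) (by norm_num)]
      exact Pp.pow_mem x6_Pp _
  · apply mem_norm_of_conj
    apply conj_closure_mem
    intro s hs
    simp only [Set.mem_insert_iff, Set.mem_singleton_iff] at hs
    rcases hs with rfl | rfl
    · rw [t2_conj (by norm_num) (by norm_num)]
      exact Pp.pow_mem x7_Pp _
    · rw [t2_conj (by norm_num) (by norm_num)]
      exact Pp.pow_mem x6_Pp _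

/-- The basic fact on double cosets. -/
theorem fix_lemma {c η h y : G} {k : ℕ} (hc : c = η * W k * h) (hη : η ∈ HB) (hh : h ∈ HB) (hy : y ∈ HB)
    (hcy : c * y * c⁻¹ ∈ HB) : h * y * h⁻¹ ∈ A k := by
  rw [mem_A]
  refine ⟨HB.mul_mem (HB.mul_mem hh hy) (HB.inv_mem hh), ?_⟩
  have e : W k * (h * y * h⁻¹) * (W k)⁻¹ = η⁻¹ * (c * y * c⁻¹) * η := by
    rw [hc]
    group
  rw [e]
  exact HB.mul_mem (HB.mul_mem (HB.inv_mem hη) hcy) hη

theorem W_zero : W 0 = 1 := rfl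

theorem Yy_le_HB : Yy ≤ HB := by
  intro g hg
  obtain ⟨k, η, hη, h, hh, e⟩ := hcov' g
  have hk : ∀ q ∈ Pp, h * q * h⁻¹ ∈ A k := fun q hq =>
    fix_lemma e hη hh (Pp_le_HB hq) (Pp_le_HB (norm_conj hg hq))
  have hd : Nat.card Pp ∣ Nat.card (A k) := conj_card_dvd hk
  rw [card_Pp] at hd
  fin_cases k
  · have e2 : g = η * h := by
      rw [e]
      simp [W]
    rw [e2]
    exact HB.mul_mem hη hh
  · exfalso
    have : Nat.card (A 1) = 300000 := card_A1'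
    have hd' : 15625 ∣ Nat.card (A 1) := hd
    rw [this] at hd'
    norm_num at hd'
  · exfalso
    have : Nat.card (A 2) = 6048 := card_A2'
    have hd' : 15625 ∣ Nat.card (A 2) := hd
    rw [this] at hd'
    norm_num at hd'
  · exfalso
    have : Nat.card (A 3) = 1008 := card_A3'
    have hd' : 15625 ∣ Nat.card (A 3) := hd
    rw [this] at hd'
    norm_num at hd'
  · exfalso
    have : Nat.card (A 4) = 2880 := card_A4'
    have hd' : 15625 ∣ Nat.card (A 4) := hd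
    rw [this] at hd'
    norm_num at hd'

/-- The fixed vectors of the Sylow subgroup. -/
theorem fixed_vec {v : Fin 14 → K} (h7 : M14 (xr 7) *ᵥ v = v) (h6 : M14 (xr 6) *ᵥ v = v) (i : Fin 14) (hi : i ≠ 13) :
    v i = 0 := by
  rw [xr, M14_XX] at h7 h6
  have h1 : (mM (cX (7,1)) - 1) *ᵥ v = 0 := by
    rw [Matrix.sub_mulVec, Matrix.one_mulVec, h7, sub_self]
  have h2 : (mM (cX (6,1)) - 1) *ᵥ v = 0 := by
    rw [Matrix.sub_mulVec, Matrix.one_mulVec, h6, sub_self]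
  have h3 : (Matrix.diagonal (fun i : Fin 14 => if i = 13 then (0 : ZMod 5) else 1)) *ᵥ v = 0 := by
    rw [← fix_cert, Matrix.add_mulVec, ← Matrix.mulVec_mulVec, ← Matrix.mulVec_mulVec, h1, h2]
    simp
  have h4 := congrFun h3 i
  rw [Matrix.mulVec_diagonal] at h4
  simpa [hi] using h4

/-- The normaliser stabilises the highest line. -/
theorem Yy_line {g : G} (hg : g ∈ Yy) : ∃ l : K, l ≠ 0 ∧ M14 g *ᵥ eV 13 = l • eV 13 := by
  have hgH := Yy_le_HB hg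
  set v : Fin 14 → K := M14 g *ᵥ eV 13 with hv
  have key : ∀ p ∈ Pp, M14 p *ᵥ v = v := by
    intro p hp
    have hinv : g⁻¹ ∈ Yy := Yy.inv_mem hg
    have h1 : g⁻¹ * p * (g⁻¹)⁻¹ ∈ Pp := norm_conj hinv hp
    rw [inv_inv] at h1
    have e : p * g = g * (g⁻¹ * p * g) := by group
    have h2 : M14 p * M14 g = M14 g * M14 (g⁻¹ * p * g) := by
      rw [← M14_mul (Pp_le_HB hp) hgH, ← M14_mul hgH (Pp_le_HB h1), e]
    rw [hv, Matrix.mulVec_mulVec, h2, ← Matrix.mulVec_mulVec, (Pp_le_S0 h1).2]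
  have h0 := fixed_vec (key _ x7_Pp) (key _ x6_Pp)
  have hvl : v = v 13 • eV 13 := by
    ext i
    by_cases hi : i = 13
    · subst hi
      simp [eV]
    · simp [eV, hi, h0 i hi]
  refine ⟨v 13, ?_, hvl⟩
  intro hl
  rw [hl, zero_smul] at hvl
  have h1 : M14 g⁻¹ *ᵥ v = eV 13 := by
    rw [hv, Matrix.mulVec_mulVec, M14_inv_mul hgH, Matrix.one_mulVec]
  rw [hvl, Matrix.mulVec_zero] at h1
  have h2 := congrFun h1 13
  simp [eV] at h2

theorem t2_pow_e13 (j : ℕ) : M14 (t2 ^ j) *ᵥ eV 13 = ((2 : K) ^ j) • eV 13 := by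
  induction j with
  | zero => simp [M14_one]
  | succ j ih =>
    have hm : t2 ^ j ∈ HB := HB.pow_mem t2_HB j
    rw [pow_succ, M14_mul hm t2_HB, ← Matrix.mulVec_mulVec]
    have e : M14 t2 *ᵥ eV 13 = (2 : K) • eV 13 := by
      have := M14_ew wT2
      show M14 (ew wT2) *ᵥ eV 13 = _
      rw [this]
      exact t2_e13
    rw [e, Matrix.mulVec_smul, ih, smul_smul, pow_succ]
    ring_nf

theorem scal_aux : ∀ l : K, l ≠ 0 → ∃ j : Fin 4, (2 : K) ^ (j : ℕ) * l = 1 := by decide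

/-- The intersection with the stabiliser has index at most four. -/
theorem card_Yy_le : Nat.card Yy ≤ 4 * Nat.card (Yy ⊓ S0 : Subgroup G) := by
  apply card_translates (fun j : Fin 4 => (t2 ^ (j : ℕ))⁻¹)
  intro y hy
  obtain ⟨l, hl, e⟩ := Yy_line hy
  obtain ⟨j, hj⟩ := scal_aux l hl
  refine ⟨j, t2 ^ (j : ℕ) * y, ⟨?_, ?_⟩, by group⟩
  · exact Yy.mul_mem (Yy.pow_mem (Tt_le_Yy (Subgroup.subset_closure (by simp))) _) hy
  · have hm : t2 ^ (j : ℕ) ∈ HB := HB.pow_mem t2_HB _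
    refine ⟨HB.mul_mem hm (Yy_le_HB hy), ?_⟩
    rw [M14_mul hm (Yy_le_HB hy), ← Matrix.mulVec_mulVec, e, Matrix.mulVec_smul, t2_pow_e13, smul_smul,
      mul_comm l, hj, one_smul]

/-- The form of the elements of the Sylow subgroup on the plane. -/
theorem Pp_plane : ∀ p ∈ Pp, p ∈ HB ∧ (∃ k : K, M14 p *ᵥ eV 12 = eV 12 + k • eV 13) ∧ M14 p *ᵥ eV 13 = eV 13 := by
  apply closure_subset_of_mul _ {p | p ∈ HB ∧ (∃ k : K, M14 p *ᵥ eV 12 = eV 12 + k • eV 13) ∧ M14 p *ᵥ eV 13 = eV 13}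
  · exact ⟨HB.one_mem, ⟨0, by simp [M14_one]⟩, by simp [M14_one]⟩
  · rintro g hg p ⟨hp, ⟨k, h1⟩, h2⟩
    simp only [Set.mem_insert_iff, Set.mem_singleton_iff] at hg
    rcases hg with rfl | rfl
    · have hgH : xr 7 ∈ HB := XX_mem _
      refine ⟨HB.mul_mem hgH hp, ⟨k, ?_⟩, ?_⟩
      · rw [M14_mul hgH hp, ← Matrix.mulVec_mulVec, h1, Matrix.mulVec_add, Matrix.mulVec_smul, xr, M14_XX, x7_e12, x7_e13]
      · rw [M14_mul hgH hp, ← Matrix.mulVec_mulVec, h2, xr, M14_XX, x7_e13]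
    · have hgH : xr 6 ∈ HB := XX_mem _
      refine ⟨HB.mul_mem hgH hp, ⟨1 + k, ?_⟩, ?_⟩
      · rw [M14_mul hgH hp, ← Matrix.mulVec_mulVec, h1, Matrix.mulVec_add, Matrix.mulVec_smul, xr, M14_XX, x6_e12, x6_e13,
          add_smul, one_smul, add_assoc]
      · rw [M14_mul hgH hp, ← Matrix.mulVec_mulVec, h2, xr, M14_XX, x6_e13]

/-- The negative root element does not normalise. -/
theorem x4_not {u : ℕ} (hu : u < 5) (hu0 : u ≠ 0) : XX (4, u) ∉ Yy := by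
  intro h
  have h1 : XX (4, u) * xr 7 * (XX (4, u))⁻¹ ∈ Pp := norm_conj h x7_Pp
  rw [XX_inv (by norm_num) hu.le] at h1
  have e : XX (4, u) * xr 7 * XX (4, 5 - u) = ew [(4, u), (7, 1), (4, 5 - u)] := by
    simp [ew, xr, mul_assoc]
  rw [e] at h1
  obtain ⟨-, ⟨k, h2⟩, -⟩ := Pp_plane _ h1
  rw [M14_ew] at h2
  have h3 := x4_col u hu hu0
  rw [h2] at h3
  apply h3
  simp [eV]

theorem card_Y1_le : 5 * Nat.card (Yy ⊓ S0 : Subgroup G) ≤ Nat.card S0 := by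
  have hmem : ∀ t : ℕ, t < 5 → XX (4, t) ∈ S0 := by
    intro t ht
    exact ⟨XX_mem _, by rw [M14_XX]; exact x4_e13 t ht⟩
  apply card_cosets (Y₁ := (Yy ⊓ S0 : Subgroup G)) (S₀ := S0) inf_le_right (fun t : Fin 5 => XX (4, (t : ℕ)))
    (fun t => hmem _ t.2)
  intro s t h
  by_contra hne
  have hne' : (s : ℕ) ≠ t := fun e => hne (Fin.ext e)
  have e : (XX (4, (s : ℕ)))⁻¹ * XX (4, (t : ℕ)) = XX (4, (5 - (s : ℕ) + t) % 5) := by
    rw [XX_inv (by norm_num) (by omega), XX_add (by norm_num), XX_mod]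
  have h2 : (XX (4, (s : ℕ)))⁻¹ * XX (4, (t : ℕ)) ∈ Yy := h.1
  rw [e] at h2
  exact x4_not (Nat.mod_lt _ (by norm_num)) (by omega) h2

theorem ETab_v0 : decV 256 5 14 ETab.v0 = eV 13 := by decide +kernel

theorem card_S0_le : 15624 * Nat.card S0 ≤ 5859000000 := by
  obtain ⟨g, hg, hinj⟩ := table_elts (n := 15624) (gs := ETab.gs) (v0 := ETab.v0) HB le_rfl
    (allR_le' ETab.hF (by norm_num)) (fun p _ => XX_mem p)
    (rd_of_redu' (by decide +kernel)) (lt_of_redu' (by decide +kernel))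
  rw [← card_HB']
  apply card_cosets (Y₁ := S0) (S₀ := HB) S0_le (fun i : Fin 15624 => g i) (fun i => hg i i.2)
  intro s t h
  have h2 := h.2
  have h1 : g s ∈ HB := hg s s.2
  have h3 : g t ∈ HB := hg t t.2
  rw [M14_mul (HB.inv_mem h1) h3] at h2
  have h4 : M14 (g t) *ᵥ eV 13 = M14 (g s) *ᵥ eV 13 := by
    have h5 : M14 (g s) *ᵥ (M14 (g s)⁻¹ *ᵥ (M14 (g t) *ᵥ eV 13)) = M14 (g t) *ᵥ eV 13 := by
      rw [Matrix.mulVec_mulVec, Matrix.mulVec_mulVec, M14_mul_inv h1, Matrix.one_mul]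
    rw [← h5, Matrix.mulVec_mulVec (eV 13) (M14 (g s)⁻¹) (M14 (g t)), h2]
  apply Fin.ext
  refine hinj s t s.2 t.2 ?_
  rw [ETab_v0, h4]

/-- The order of the normaliser of the Sylow subgroup. -/
theorem card_Yy : Nat.card Yy = 250000 := by
  have h1 := card_Yy_le
  have h2 := card_Y1_le
  have h3 := card_S0_le
  have h4 : Nat.card Pp ∣ Nat.card Yy := Subgroup.card_dvd_of_le Pp_le_Yy
  have h5 : Nat.card Tt ∣ Nat.card Yy := Subgroup.card_dvd_of_le Tt_le_Yy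
  rw [card_Pp] at h4
  rw [card_Tt] at h5
  have h6 : 15625 * 16 ∣ Nat.card Yy := Nat.Coprime.mul_dvd_of_dvd_of_dvd (by norm_num) h4 h5
  have h7 : Nat.card Yy ≠ 0 := Nat.card_pos.ne'
  obtain ⟨m, hm⟩ := h6
  have h8 : Nat.card Yy ≤ 300000 := by omega
  have h9 : m = 1 := by
    have : m ≠ 0 := by
      rintro rfl
      simp at hm
      exact h7 hm
    omega
  rw [hm, h9]

end Cfsg.Agent.Lib.LyOut
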