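import Mathlib
import Cfsg.Agent.Lib.LyOut.Borel

/-!
# The presented Lyons group: centralisers of large subgroups of the Borel subgroup are trivial
-/

set_option autoImplicit false
set_option maxRecDepth 100000
set_option linter.all false
set_option Elab.async false
set_option maxHeartbeats 0
set_option synthInstance.maxHeartbeats 0
set_option synthInstance.maxSize 100000

namespace Cfsg.Agent.Lib.LyOut

open Cfsg Cfsg.Spor Cfsg.Lie Cfsg.Agent.Lib.FpVec Cfsg.Agent.Lib.ChevG25 Cfsg.Agent.Lib.LyG25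
  Cfsg.Agent.Lib.LyDce Cfsg.Agent.Lib.VecOrb Matrix

/-- The code of a word in the letters of the subgroup. -/
def ce : List ℕ → List ℕ
  | [] => idC
  | a :: l => mulC (cN a) (ce l)

theorem R_eh (l : List ℕ) : R (ce l) (eh l) := by
  induction l with
  | nil => exact R.one
  | cons a l ih =>
    rw [eh_cons]
    exact (R_lt a).mul ih

theorem eh_eq_ew {l : List ℕ} {w : List (ℕ × ℕ)} (h : ce l = cw w) : eh l = ew w :=
  eq_of_code (R_eh l) (R_ew w) h

theorem tw6 : eh (tW [2]) = xr 6 := by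
  have := eh_eq_ew (l := tW [2]) (w := [(6,1)]) (by decide +kernel)
  rw [ew_singleton] at this
  exact this

theorem kw6 : eh (kW [2]) = xr 9 := by
  have := eh_eq_ew (l := kW [2]) (w := [(9,1)]) (by decide +kernel)
  rw [ew_singleton] at this
  exact this

theorem tw8 : eh (tW [2,7,7]) = xr 8 := by
  have := eh_eq_ew (l := tW [2,7,7]) (w := [(8,1)]) (by decide +kernel)
  rw [ew_singleton] at this
  exact this

theorem tw9 : eh (tW [0,5,3,6]) = xr 9 := by
  have := eh_eq_ew (l := tW [0,5,3,6]) (w := [(9,1)]) (by decide +kernel)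
  rw [ew_singleton] at this
  exact this

theorem tw10 : eh (tW [2,5,1,7]) = xr 10 := by
  have := eh_eq_ew (l := tW [2,5,1,7]) (w := [(10,1)]) (by decide +kernel)
  rw [ew_singleton] at this
  exact this

theorem tw11 : eh (tW [8,8]) = xr 11 := by
  have := eh_eq_ew (l := tW [8,8]) (w := [(11,1)]) (by decide +kernel)
  rw [ew_singleton] at this
  exact this

theorem twt1 : eh (tW [12,10,15,13]) = t1 := eh_eq_ew (by decide +kernel)

theorem twt2 : eh (tW [14,13,11]) = t2 := eh_eq_ew (by decide +kernel)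

theorem Qa_le_A1 : Qa ≤ A 1 := by
  apply (Subgroup.closure_le _).2
  intro s hs
  simp only [Set.mem_insert_iff, Set.mem_singleton_iff] at hs
  rcases hs with rfl | rfl | rfl | rfl | rfl
  · rw [← tw6]; exact mem1 _
  · rw [← tw8]; exact mem1 _
  · rw [← tw9]; exact mem1 _
  · rw [← tw10]; exact mem1 _
  · rw [← tw11]; exact mem1 _

theorem t1_A1 : t1 ∈ A 1 := by
  rw [← twt1]; exact mem1 _

theorem t2_A1 : t2 ∈ A 1 := by
  rw [← twt2]; exact mem1 _

/-- The images of the generators of the radical under the generators of the intersection. -/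
def certL : List (ℕ × ℕ × ℕ × ℕ × ℕ) :=
  [(1,0,0,0,3),(0,1,0,0,1),(0,0,1,0,4),(0,0,0,1,3),(0,0,0,0,1),(1,0,0,0,0),(0,1,0,0,0),(0,0,1,0,0),(0,0,0,1,1),(0,0,0,0,1),(1,0,0,0,3),(0,1,0,0,4),(0,0,1,0,0),(0,0,0,1,0),(0,0,0,0,1),(1,0,0,0,0),(0,1,0,0,0),(0,0,1,0,1),(0,0,0,1,3),(0,0,0,0,1),(1,0,0,0,0),(0,1,0,0,0),(0,0,1,0,0),(0,0,0,1,0),(0,0,0,0,1),(3,3,3,2,1),(4,3,2,4,3),(4,2,2,1,2),(2,3,2,2,4),(0,0,0,0,3),(2,4,3,4,3),(3,2,1,4,1),(4,4,3,3,1),(1,3,4,3,3),(0,0,0,0,3),(3,2,3,3,4),(1,3,3,4,2),(4,3,2,4,3),(3,3,3,2,1),(0,0,0,0,3)]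

/-- The radical is normal in the intersection: the check. -/
theorem cert_chk : ∀ j, j < 8 → ∀ i, i < 5 →
    mulC (ce (tLet (2 * j))) (cw [([6,8,9,10,11].getD i 0, 1)]) =
      mulC (cw (muw (certL.getD (5 * j + i) (0,0,0,0,0)).1 (certL.getD (5 * j + i) (0,0,0,0,0)).2.1
        (certL.getD (5 * j + i) (0,0,0,0,0)).2.2.1 (certL.getD (5 * j + i) (0,0,0,0,0)).2.2.2.1
        (certL.getD (5 * j + i) (0,0,0,0,0)).2.2.2.2)) (ce (tLet (2 * j))) := by
  decide +kernel

theorem cert_conj {j i : ℕ} (hj : j < 8) (hi : i < 5) :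
    eh (tLet (2 * j)) * xr ([6,8,9,10,11].getD i 0) * (eh (tLet (2 * j)))⁻¹ ∈ Qa := by
  have h1 := (R_eh (tLet (2 * j))).mul (R_ew [([6,8,9,10,11].getD i 0, 1)])
  rw [cert_chk j hj i hi] at h1
  have h2 := (R_ew (muw (certL.getD (5 * j + i) (0,0,0,0,0)).1 (certL.getD (5 * j + i) (0,0,0,0,0)).2.1
        (certL.getD (5 * j + i) (0,0,0,0,0)).2.2.1 (certL.getD (5 * j + i) (0,0,0,0,0)).2.2.2.1
        (certL.getD (5 * j + i) (0,0,0,0,0)).2.2.2.2)).mul (R_eh (tLet (2 * j)))
  have h3 := R.unique h1 h2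
  rw [ew_singleton] at h3
  have h4 : eh (tLet (2 * j)) * xr ([6,8,9,10,11].getD i 0) * (eh (tLet (2 * j)))⁻¹ =
      ew (muw (certL.getD (5 * j + i) (0,0,0,0,0)).1 (certL.getD (5 * j + i) (0,0,0,0,0)).2.1
        (certL.getD (5 * j + i) (0,0,0,0,0)).2.2.1 (certL.getD (5 * j + i) (0,0,0,0,0)).2.2.2.1
        (certL.getD (5 * j + i) (0,0,0,0,0)).2.2.2.2) := by
    show eh (tLet (2 * j)) * XX ([6,8,9,10,11].getD i 0, 1) * (eh (tLet (2 * j)))⁻¹ = _
    rw [h3]
    group
  rw [h4]
  exact muw_Qa _ _ _ _ _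

theorem Qa_norm_A1 : ∀ y ∈ A 1, ∀ q ∈ Qa, y * q * y⁻¹ ∈ Qa := by
  apply A1_norm
  intro j hj
  apply conj_closure_mem
  intro s hs
  simp only [Set.mem_insert_iff, Set.mem_singleton_iff] at hs
  rcases hs with rfl | rfl | rfl | rfl | rfl
  · exact cert_conj (i := 0) hj (by norm_num)
  · exact cert_conj (i := 1) hj (by norm_num)
  · exact cert_conj (i := 2) hj (by norm_num)
  · exact cert_conj (i := 3) hj (by norm_num)
  · exact cert_conj (i := 4) hj (by norm_num)

theorem mem_Qa_of_pow {y : G} (hy : y ∈ A 1) (hm : y ^ 3125 = 1) : y ∈ Qa :=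
  mem_of_normal_index Qa_le_A1 Qa_norm_A1 (N := 96) (by rw [card_A1', card_Qa]) (by norm_num) (by rw [card_Qa]; norm_num)
    hy hm

theorem Qa_pow {q : G} (hq : q ∈ Qa) : q ^ 3125 = 1 := by
  have h : (⟨q, hq⟩ : Qa) ^ Nat.card Qa = 1 := pow_card_eq_one'
  rw [card_Qa] at h
  exact congrArg Subtype.val h

theorem x11_central : ∀ g ∈ Qa, Commute (xr 11) g := by
  intro g hg
  induction hg using Subgroup.closure_induction with
  | mem s hs =>
    simp only [Set.mem_insert_iff, Set.mem_singleton_iff] at hs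
    rcases hs with rfl | rfl | rfl | rfl | rfl
    · exact c116
    · exact c118
    · exact c119
    · exact c1110
    · exact Commute.refl _
  | one => exact Commute.one_right _
  | mul a b _ _ ha hb => exact ha.mul_right hb
  | inv a _ ha => exact ha.inv_right

theorem tw_comm {a b z : G} (h : Commute a b) : ∃ k : ℤ, a * b = b * a * z ^ k := ⟨0, by simpa using h.eq⟩

theorem tw_symm {a b z : G} (h : ∃ k : ℤ, a * b = b * a * z ^ k) : ∃ k : ℤ, b * a = a * b * z ^ k := by
  obtain ⟨k, hk⟩ := h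
  refine ⟨-k, ?_⟩
  rw [hk]
  group

theorem tw98 : ∃ k : ℤ, xr 9 * xr 8 = xr 8 * xr 9 * xr 11 ^ k := ⟨2, by
  rw [r98]
  norm_cast⟩

theorem tw106 : ∃ k : ℤ, xr 10 * xr 6 = xr 6 * xr 10 * xr 11 ^ k := ⟨4, by
  rw [r106]
  norm_cast⟩

theorem class2 : ∀ a ∈ Qa, ∀ b ∈ Qa, ∃ k : ℤ, a * b = b * a * xr 11 ^ k := by
  apply class_two x11_central
  intro a ha b hb
  simp only [Set.mem_insert_iff, Set.mem_singleton_iff] at ha hb
  rcases ha with rfl | rfl | rfl | rfl | rfl <;> rcases hb with rfl | rfl | rfl | rfl | rfl <;>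
  first
    | exact tw_comm (Commute.refl _)
    | exact tw_comm c68
    | exact tw_comm c69
    | exact tw_comm c810
    | exact tw_comm c910
    | exact tw_comm c116
    | exact tw_comm c118
    | exact tw_comm c119
    | exact tw_comm c1110
    | exact tw_comm c68.symm
    | exact tw_comm c69.symm
    | exact tw_comm c810.symm
    | exact tw_comm c910.symm
    | exact tw_comm c116.symm
    | exact tw_comm c118.symm
    | exact tw_comm c119.symm
    | exact tw_comm c1110.symm
    | exact tw98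
    | exact tw_symm tw98
    | exact tw106
    | exact tw_symm tw106

/-- `xr 6` and `xr 8` commute, and other pairs still to be treated. -/
theorem fix_closure {c : G} {S : Set G} (h : ∀ s ∈ S, c * s * c⁻¹ = s) : ∀ y ∈ Subgroup.closure S, c * y * c⁻¹ = y := by
  intro y hy
  induction hy using Subgroup.closure_induction with
  | mem s hs => exact h s hs
  | one => simp
  | mul a b _ _ ha hb =>
    have e : c * (a * b) * c⁻¹ = (c * a * c⁻¹) * (c * b * c⁻¹) := by group
    rw [e, ha, hb]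
  | inv a _ ha =>
    have e : c * a⁻¹ * c⁻¹ = (c * a * c⁻¹)⁻¹ := by group
    rw [e, ha]

/-- The double cosets which can contain a centraliser of `E`. -/
theorem cent_cases {c : G} (h10 : c * xr 10 * c⁻¹ = xr 10) (h11 : c * xr 11 * c⁻¹ = xr 11) :
    ∃ η ∈ HB, ∃ h ∈ HB, c = η * h ∨ c = η * Z * h := by
  obtain ⟨k, η, hη, h, hh, e⟩ := hcov' c
  have hE : ∀ y ∈ Ee, c * y * c⁻¹ = y := by
    apply fix_closure
    intro s hs
    simp only [Set.mem_insert_iff, Set.mem_singleton_iff] at hs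
    rcases hs with rfl | rfl
    · exact h10
    · exact h11
  have hEH : Ee ≤ HB := by
    apply (Subgroup.closure_le _).2
    intro s hs
    simp only [Set.mem_insert_iff, Set.mem_singleton_iff] at hs
    rcases hs with rfl | rfl
    · exact XX_mem _
    · exact XX_mem _
  have hk : ∀ q ∈ Ee, h * q * h⁻¹ ∈ A k := fun q hq =>
    fix_lemma e hη hh (hEH hq) (by rw [hE q hq]; exact hEH hq)
  have hd : Nat.card Ee ∣ Nat.card (A k) := conj_card_dvd hk
  rw [card_Ee] at hd
  refine ⟨η, hη, h, hh, ?_⟩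
  fin_cases k
  · left
    rw [e]
    simp [W]
  · right
    exact e
  · exfalso
    have : Nat.card (A 2) = 6048 := card_A2'
    have hd' : 25 ∣ Nat.card (A 2) := hd
    rw [this] at hd'
    norm_num at hd'
  · exfalso
    have : Nat.card (A 3) = 1008 := card_A3'
    have hd' : 25 ∣ Nat.card (A 3) := hd
    rw [this] at hd'
    norm_num at hd'
  · exfalso
    have : Nat.card (A 4) = 2880 := card_A4'
    have hd' : 25 ∣ Nat.card (A 4) := hd
    rw [this] at hd'
    norm_num at hd'

/-! ### The scalar lemma -/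

theorem M14_comm {c y : G} (hc : c ∈ HB) (hy : y ∈ HB) (h : c * y * c⁻¹ = y) : M14 c * M14 y = M14 y * M14 c := by
  have e : c * y = y * c := by
    calc c * y = (c * y * c⁻¹) * c := by group
      _ = y * c := by rw [h]
  rw [← M14_mul hc hy, ← M14_mul hy hc, e]

theorem block_aux : ∀ l a b c' d : K, l * 4 = 4 * a + 0 * c' → l * 0 = 4 * b + 0 * d → l * 1 = 1 * a + 4 * c' →
    l * 4 = 1 * b + 4 * d → a = l ∧ b = 0 ∧ c' = 0 ∧ d = l := by decide +kernel

theorem x67_ne : mM (cw [(6,1),(7,1)]) ≠ mM (cw [(7,1),(6,1)]) := by decide +kernel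

/-- An element of the simple group acting by a scalar is trivial. -/
theorem scalar_one {c : G} (hc : c ∈ HB) {l : K} (hl : M14 c = l • (1 : Matrix (Fin 14) (Fin 14) K)) : c = 1 := by
  haveI : IsSimpleGroup HB := simple_HB'
  have hcentral : ∀ y ∈ HB, c * y = y * c := by
    intro y hy
    apply M14_inj (HB.mul_mem hc hy) (HB.mul_mem hy hc)
    rw [M14_mul hc hy, M14_mul hy hc, hl]
    simp
  have hmem : (⟨c, hc⟩ : HB) ∈ Subgroup.center HB := by
    rw [Subgroup.mem_center_iff]
    intro y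
    exact Subtype.ext (hcentral y y.2).symm
  rcases IsSimpleGroup.eq_bot_or_eq_top_of_normal (Subgroup.center HB) inferInstance with h | h
  · rw [h] at hmem
    exact congrArg Subtype.val (Subgroup.mem_bot.mp hmem)
  · exfalso
    have h7 : (⟨xr 7, XX_mem _⟩ : HB) ∈ Subgroup.center HB := by
      rw [h]
      trivial
    rw [Subgroup.mem_center_iff] at h7
    have h8 := h7 ⟨xr 6, XX_mem _⟩
    have h9 : xr 6 * xr 7 = xr 7 * xr 6 := congrArg Subtype.val h8
    apply x67_ne
    rw [← M14_ew, ← M14_ew]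
    congr 1
    simpa [ew, xr] using h9

theorem scalar_case {c : G} (hc : c ∈ HB) (ht1 : c * t1 * c⁻¹ = t1) (ht2 : c * t2 * c⁻¹ = t2)
    (h8 : c * xr 8 * c⁻¹ = xr 8) (h9 : c * xr 9 * c⁻¹ = xr 9) (hx : c * xr 6 * c⁻¹ = xr 6 ∨ c * xr 7 * c⁻¹ = xr 7) :
    c = 1 := by
  set M := M14 c with hM
  have hd1 : M * Matrix.diagonal d1 = Matrix.diagonal d1 * M := by
    have := M14_comm hc t1_HB ht1
    have e : M14 t1 = Matrix.diagonal d1 := by
      show M14 (ew wT1) = _
      rw [M14_ew, mT1]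
    rwa [e] at this
  have hd2 : M * Matrix.diagonal d2 = Matrix.diagonal d2 * M := by
    have := M14_comm hc t2_HB ht2
    have e : M14 t2 = Matrix.diagonal d2 := by
      show M14 (ew wT2) = _
      rw [M14_ew, mT2]
    rwa [e] at this
  have hoff : ∀ i j : Fin 14, i ≠ j → ¬ (i.val ≤ 1 ∧ j.val ≤ 1) → M i j = 0 := by
    intro i j hij hn
    rcases diag_sep i j hij hn with h | h
    · exact comm_diag hd1 h
    · exact comm_diag hd2 h
  have hi : ∀ i : Fin 14, 2 ≤ i.val → ∀ k, k ≠ i → M i k = 0 := fun i h2 k hk =>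
    hoff i k (Ne.symm hk) (by omega)
  have hj : ∀ j : Fin 14, 2 ≤ j.val → ∀ k, k ≠ j → M k j = 0 := fun j h2 k hk =>
    hoff k j hk (by omega)
  have c8 : M * mM (cX (8,1)) = mM (cX (8,1)) * M := by
    have := M14_comm hc (XX_mem _) h8
    rwa [M14_XX] at this
  have c9 : M * mM (cX (9,1)) = mM (cX (9,1)) * M := by
    have := M14_comm hc (XX_mem _) h9
    rwa [M14_XX] at this
  have E8 : ∀ i j : Fin 14, 2 ≤ i.val → 2 ≤ j.val → mM (cX (8,1)) i j ≠ 0 → M i i = M j j := fun i j h1 h2 h3 =>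
    comm_edge c8 (hi i h1) (hj j h2) h3
  have e42 := E8 4 2 (by norm_num) (by norm_num) (by decide +kernel)
  have e62 := E8 6 2 (by norm_num) (by norm_num) (by decide +kernel)
  have e82 := E8 8 2 (by norm_num) (by norm_num) (by decide +kernel)
  have e97 := E8 9 7 (by norm_num) (by norm_num) (by decide +kernel)
  have e117 := E8 11 7 (by norm_num) (by norm_num) (by decide +kernel)
  have e137 := E8 13 7 (by norm_num) (by norm_num) (by decide +kernel)
  have hdiag : ∀ i : Fin 14, 2 ≤ i.val → M i i = M 2 2 := by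
    rcases hx with h6 | h7
    · have c6 : M * mM (cX (6,1)) = mM (cX (6,1)) * M := by
        have := M14_comm hc (XX_mem _) h6
        rwa [M14_XX] at this
      have E6 : ∀ i j : Fin 14, 2 ≤ i.val → 2 ≤ j.val → mM (cX (6,1)) i j ≠ 0 → M i i = M j j := fun i j h1 h2 h3 =>
        comm_edge c6 (hi i h1) (hj j h2) h3
      have e32 := E6 3 2 (by norm_num) (by norm_num) (by decide +kernel)
      have e65 := E6 6 5 (by norm_num) (by norm_num) (by decide +kernel)
      have e87 := E6 8 7 (by norm_num) (by norm_num) (by decide +kernel)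
      have e109 := E6 10 9 (by norm_num) (by norm_num) (by decide +kernel)
      have e1312 := E6 13 12 (by norm_num) (by norm_num) (by decide +kernel)
      intro i h2
      fin_cases i
      · simp at h2
      · simp at h2
      · rfl
      · exact e32
      · exact e42
      · exact e65.symm.trans e62
      · exact e62
      · exact e87.symm.trans e82
      · exact e82
      · exact e97.trans (e87.symm.trans e82)
      · exact e109.trans (e97.trans (e87.symm.trans e82))
      · exact e117.trans (e87.symm.trans e82)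
      · exact e1312.symm.trans (e137.trans (e87.symm.trans e82))
      · exact e137.trans (e87.symm.trans e82)
    · have c7 : M * mM (cX (7,1)) = mM (cX (7,1)) * M := by
        have := M14_comm hc (XX_mem _) h7
        rwa [M14_XX] at this
      have E7 : ∀ i j : Fin 14, 2 ≤ i.val → 2 ≤ j.val → mM (cX (7,1)) i j ≠ 0 → M i i = M j j := fun i j h1 h2 h3 =>
        comm_edge c7 (hi i h1) (hj j h2) h3
      have e43 := E7 4 3 (by norm_num) (by norm_num) (by decide +kernel)
      have e53 := E7 5 3 (by norm_num) (by norm_num) (by decide +kernel)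
      have e73 := E7 7 3 (by norm_num) (by norm_num) (by decide +kernel)
      have e96 := E7 9 6 (by norm_num) (by norm_num) (by decide +kernel)
      have e108 := E7 10 8 (by norm_num) (by norm_num) (by decide +kernel)
      have e118 := E7 11 8 (by norm_num) (by norm_num) (by decide +kernel)
      have e128 := E7 12 8 (by norm_num) (by norm_num) (by decide +kernel)
      have e32 : M 3 3 = M 2 2 := e43.symm.trans e42
      intro i h2
      fin_cases i
      · simp at h2
      · simp at h2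
      · rfl
      · exact e32
      · exact e42
      · exact e53.trans e32
      · exact e62
      · exact e73.trans e32
      · exact e82
      · exact e96.trans e62
      · exact e108.trans e82
      · exact e118.trans e82
      · exact e128.trans e82
      · exact e137.trans (e73.trans e32)
  -- the block
  have hjb : ∀ j : Fin 14, j.val ≤ 1 → ∀ k, k ≠ 0 → k ≠ 1 → M k j = 0 := by
    intro j h1 k hk0 hk1
    have hk2 : 2 ≤ k.val := by
      have h0 : k.val ≠ 0 := fun e => hk0 (Fin.ext e)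
      have h1 : k.val ≠ 1 := fun e => hk1 (Fin.ext e)
      omega
    exact hoff k j (by
      intro e
      rw [e] at hk2
      omega) (by omega)
  have r0 := comm_row c9 (i := 11) (j := 0) (a := 0) (b := 1) (by decide) (hi 11 (by norm_num)) (hjb 0 (by norm_num))
  have r1 := comm_row c9 (i := 11) (j := 1) (a := 0) (b := 1) (by decide) (hi 11 (by norm_num)) (hjb 1 (by norm_num))
  have r2 := comm_row c8 (i := 10) (j := 0) (a := 0) (b := 1) (by decide) (hi 10 (by norm_num)) (hjb 0 (by norm_num))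
  have r3 := comm_row c8 (i := 10) (j := 1) (a := 0) (b := 1) (by decide) (hi 10 (by norm_num)) (hjb 1 (by norm_num))
  have x1 : mM (cX (9,1)) 11 0 = 4 := by decide +kernel
  have x2 : mM (cX (9,1)) 11 1 = 0 := by decide +kernel
  have x3 : mM (cX (8,1)) 10 0 = 1 := by decide +kernel
  have x4 : mM (cX (8,1)) 10 1 = 4 := by decide +kernel
  rw [x1, x2, hdiag 11 (by norm_num)] at r0 r1
  rw [x3, x4, hdiag 10 (by norm_num)] at r2 r3
  obtain ⟨b1, b2, b3, b4⟩ := block_aux (M 2 2) (M 0 0) (M 0 1) (M 1 0) (M 1 1) r0 r1 r2 r3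
  apply scalar_one hc (l := M 2 2)
  ext i j
  have hone : ((M 2 2) • (1 : Matrix (Fin 14) (Fin 14) K)) i j = if i = j then M 2 2 else 0 := by
    simp [Matrix.smul_apply, Matrix.one_apply]
  rw [hone]
  by_cases hij : i = j
  · subst hij
    rw [if_pos rfl]
    by_cases h2 : 2 ≤ i.val
    · exact hdiag i h2
    · have : i = 0 ∨ i = 1 := by
        have h3 : i.val = 0 ∨ i.val = 1 := by omega
        rcases h3 with h3 | h3
        · left; exact Fin.ext h3
        · right; exact Fin.ext h3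
      rcases this with rfl | rfl
      · exact b1
      · exact b4
  · rw [if_neg hij]
    by_cases hb : i.val ≤ 1 ∧ j.val ≤ 1
    · have hi' : i = 0 ∨ i = 1 := by
        have h3 : i.val = 0 ∨ i.val = 1 := by omega
        rcases h3 with h3 | h3
        · left; exact Fin.ext h3
        · right; exact Fin.ext h3
      have hj' : j = 0 ∨ j = 1 := by
        have h3 : j.val = 0 ∨ j.val = 1 := by omega
        rcases h3 with h3 | h3
        · left; exact Fin.ext h3
        · right; exact Fin.ext h3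
      rcases hi' with rfl | rfl <;> rcases hj' with rfl | rfl
      · exact absurd rfl hij
      · exact b2
      · exact b3
      · exact absurd rfl hij
    · exact hoff i j hij hb

/-! ### The two parabolic cases -/

/-- Long and short root elements are not conjugate. -/
theorem no_conj {g : G} (hg : g ∈ HB) (e : xr 6 = g * xr 9 * g⁻¹) : False := by
  have hgi := HB.inv_mem hg
  have h9 : xr 9 ∈ HB := XX_mem _
  have e1 : M14 (xr 6) = M14 g * M14 (xr 9) * M14 g⁻¹ := by
    rw [e, M14_mul (HB.mul_mem hg h9) hgi, M14_mul hg h9]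
  set A' := M14 g
  set B := M14 g⁻¹
  have hAB : A' * B = 1 := M14_mul_inv hg
  have hBA : B * A' = 1 := M14_inv_mul hg
  have hBA' : ∀ Z' : Matrix (Fin 14) (Fin 14) K, B * (A' * Z') = Z' := fun Z' => by
    rw [← Matrix.mul_assoc, hBA, Matrix.one_mul]
  have e2 : M14 (xr 6) - 1 = A' * (M14 (xr 9) - 1) * B := by
    rw [e1, Matrix.mul_sub, Matrix.sub_mul, Matrix.mul_one, hAB]
  have e3 : (A' * (M14 (xr 9) - 1) * B) ^ 3 = A' * (M14 (xr 9) - 1) ^ 3 * B := by
    simp only [pow_succ, pow_zero, one_mul, mul_assoc, hBA']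
  have h0 : (M14 (xr 6) - 1) ^ 3 = 0 := by
    rw [xr, M14_XX]
    exact x6_cube
  rw [e2, e3] at h0
  have h1 : (M14 (xr 9) - 1) ^ 3 = B * (A' * (M14 (xr 9) - 1) ^ 3 * B) * A' := by
    rw [mul_assoc A', ← mul_assoc B, hBA, one_mul, mul_assoc, hBA, mul_one]
  rw [h0, mul_zero, zero_mul] at h1
  apply x9_cube
  have h2 : M14 (xr 9) = mM (cX (9,1)) := M14_XX _
  rw [← h2]
  exact h1

theorem Z_x6 : Z * xr 6 * Z⁻¹ = xr 9 := by
  have h := kW_rel [2]
  rw [tw6, kw6] at h
  rw [← h]
  group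

/-- The centraliser of `Q_α T`. -/
theorem cent_alpha {c : G} (h6 : c * xr 6 * c⁻¹ = xr 6) (h8 : c * xr 8 * c⁻¹ = xr 8) (h9 : c * xr 9 * c⁻¹ = xr 9)
    (h10 : c * xr 10 * c⁻¹ = xr 10) (h11 : c * xr 11 * c⁻¹ = xr 11) (ht1 : c * t1 * c⁻¹ = t1) (ht2 : c * t2 * c⁻¹ = t2) :
    c = 1 := by
  obtain ⟨η, hη, h, hh, e | e⟩ := cent_cases h10 h11
  · have hc : c ∈ HB := by
      rw [e]
      exact HB.mul_mem hη hh
    exact scalar_case hc ht1 ht2 h8 h9 (Or.inl h6)
  · exfalso
    have hQ : ∀ q ∈ Qa, c * q * c⁻¹ = q := by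
      apply fix_closure
      intro s hs
      simp only [Set.mem_insert_iff, Set.mem_singleton_iff] at hs
      rcases hs with rfl | rfl | rfl | rfl | rfl
      · exact h6
      · exact h8
      · exact h9
      · exact h10
      · exact h11
    have hQH : ∀ q ∈ Qa, q ∈ HB := fun q hq => Pp_le_HB (Qa_le_Pp hq)
    have hA : ∀ q ∈ Qa, h * q * h⁻¹ ∈ A 1 := fun q hq =>
      fix_lemma (k := 1) e hη hh (hQH q hq) (by rw [hQ q hq]; exact hQH q hq)
    have hQQ : ∀ q ∈ Qa, h * q * h⁻¹ ∈ Qa := fun q hq => mem_Qa_of_pow (hA q hq) (by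
      rw [conj_pow, Qa_pow hq]
      group)
    obtain ⟨q, hq, hqe⟩ := exists_conj_preimage hQQ x6_Qa
    have e2 : c * q * c⁻¹ = η * (Z * xr 6 * Z⁻¹) * η⁻¹ := by
      rw [e, ← hqe]
      group
    rw [hQ q hq, Z_x6] at e2
    have e3 : xr 6 = (h * η) * xr 9 * (h * η)⁻¹ := by
      rw [← hqe, e2]
      group
    exact no_conj (HB.mul_mem hh hη) e3

theorem comm778' : (cm (xr 7) ((cm (xr 7) (xr 8)))) ≠ 1 := by
  have h := ew_ne_one comm778
  have e : ew [(7,1),(7,1),(8,1),(7,4),(8,4),(7,4),(8,1),(7,1),(8,4),(7,4)] = (cm (xr 7) ((cm (xr 7) (xr 8)))) := by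
    have e1 : XX (7,4) = (xr 7)⁻¹ := (XX_inv (r := 7) (m := 1) (by norm_num) (by norm_num)).symm
    have e2 : XX (8,4) = (xr 8)⁻¹ := (XX_inv (r := 8) (m := 1) (by norm_num) (by norm_num)).symm
    have e3 : XX (7,1) = xr 7 := rfl
    have e4 : XX (8,1) = xr 8 := rfl
    simp only [ew, List.map_cons, List.map_nil, List.prod_cons, List.prod_nil, cm, e1, e2, e3, e4]
    group
  rw [e] at h
  exact h

/-- The centraliser of `Q_β T`. -/
theorem cent_beta {c : G} (h7 : c * xr 7 * c⁻¹ = xr 7) (h8 : c * xr 8 * c⁻¹ = xr 8) (h9 : c * xr 9 * c⁻¹ = xr 9)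
    (h10 : c * xr 10 * c⁻¹ = xr 10) (h11 : c * xr 11 * c⁻¹ = xr 11) (ht1 : c * t1 * c⁻¹ = t1) (ht2 : c * t2 * c⁻¹ = t2) :
    c = 1 := by
  obtain ⟨η, hη, h, hh, e | e⟩ := cent_cases h10 h11
  · have hc : c ∈ HB := by
      rw [e]
      exact HB.mul_mem hη hh
    exact scalar_case hc ht1 ht2 h8 h9 (Or.inr h7)
  · exfalso
    have hgen : ∀ {r : ℕ}, r < 12 → c * xr r * c⁻¹ = xr r → h * xr r * h⁻¹ ∈ Qa := by
      intro r hr hc
      apply mem_Qa_of_pow
      · exact fix_lemma (k := 1) e hη hh (XX_mem _) (by rw [hc]; exact XX_mem _)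
      · rw [conj_pow]
        have : xr r ^ 3125 = 1 := by
          have e : (3125 : ℕ) = 5 * 625 := by norm_num
          rw [e, pow_mul, xr_pow5 hr, one_pow]
        rw [this]
        group
    have ha := hgen (by norm_num) h7
    have hb := hgen (by norm_num) h8
    set a := h * xr 7 * h⁻¹ with hae
    set b := h * xr 8 * h⁻¹ with hbe
    obtain ⟨k, hk⟩ := class2 a ha b hb
    have hz : ∀ {g : G}, g ∈ Qa → Commute (xr 11 ^ k) g := fun hg => (x11_central _ hg).zpow_left k
    have e1 : (cm (a) (b)) = xr 11 ^ k := by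
      rw [cm, hk]
      have : b * a * xr 11 ^ k * a⁻¹ * b⁻¹ = b * (a * xr 11 ^ k * a⁻¹) * b⁻¹ := by group
      rw [this, ((hz ha).symm.eq : a * xr 11 ^ k = xr 11 ^ k * a)]
      have : b * (xr 11 ^ k * a * a⁻¹) * b⁻¹ = b * xr 11 ^ k * b⁻¹ := by group
      rw [this, ((hz hb).symm.eq : b * xr 11 ^ k = xr 11 ^ k * b)]
      group
    have e2 : (cm (a) ((cm (a) (b)))) = 1 := by
      rw [e1, cm, ((hz ha).symm.eq : a * xr 11 ^ k = xr 11 ^ k * a)]
      group
    apply comm778'
    have e3 : (cm (a) ((cm (a) (b)))) = h * (cm (xr 7) ((cm (xr 7) (xr 8)))) * h⁻¹ := by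
      simp only [hae, hbe, cm]
      group
    rw [e3] at e2
    have e4 : (cm (xr 7) ((cm (xr 7) (xr 8)))) = h⁻¹ * (h * (cm (xr 7) ((cm (xr 7) (xr 8)))) * h⁻¹) * h := by group
    rw [e4, e2]
    group

end Cfsg.Agent.Lib.LyOut
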