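import Mathlib
import Cfsg.Agent.Lib.LyOut.Cent

/-!
# The presented Lyons group: every automorphism is inner
-/

set_option autoImplicit false
set_option maxRecDepth 100000
set_option linter.all false
set_option Elab.async false
set_option maxHeartbeats 0
set_option synthInstance.maxHeartbeats 0
set_option synthInstance.maxSize 100000

namespace Cfsg.Agent.Lib.LyOut

open Cfsg Cfsg.Spor Cfsg.Lie Cfsg.Agent.Lib.FpVec Cfsg.Agent.Lib.ChevG25 Cfsg.Agent.Lib.LyG25
  Cfsg.Agent.Lib.LyDce Cfsg.Agent.Lib.VecOrb Matrix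

/-- The elements fixed by an automorphism. -/
def fixS (β : MulAut G) : Subgroup G where
  carrier := {g | β g = g}
  mul_mem' := by
    intro a b ha hb
    show β (a * b) = a * b
    rw [map_mul, show β a = a from ha, show β b = b from hb]
  one_mem' := map_one β
  inv_mem' := by
    intro a ha
    show β a⁻¹ = a⁻¹
    rw [map_inv, show β a = a from ha]

theorem comm_of_fix {β : MulAut G} {n y y' : G} (hy : β y = y) (hy' : β y' = y') (h : n * y = y' * n) :
    (n⁻¹ * β n) * y * (n⁻¹ * β n)⁻¹ = y := by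
  have e1 : β n * y = y' * β n := by
    have := congrArg β h
    rwa [map_mul, map_mul, hy, hy'] at this
  calc (n⁻¹ * β n) * y * (n⁻¹ * β n)⁻¹ = n⁻¹ * (β n * y) * (β n)⁻¹ * n := by group
    _ = n⁻¹ * (y' * β n) * (β n)⁻¹ * n := by rw [e1]
    _ = n⁻¹ * (y' * n) := by group
    _ = n⁻¹ * (n * y) := by rw [h]
    _ = y := by group

theorem fix_of_one {β : MulAut G} {n : G} (h : n⁻¹ * β n = 1) : β n = n := by
  have : β n = n * (n⁻¹ * β n) := by group
  rw [this, h, mul_one]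

/-- The subgroup is generated by the root elements. -/
theorem HB_le_of_XX (F : Subgroup G) (h : ∀ r, r < 12 → ∀ t, XX (r, t) ∈ F) : HB ≤ F := by
  let J : Subgroup (GL IdG K) := ((F.subgroupOf HB).map psi.toMonoidHom).map GG.subtype
  have hle : GG ≤ J := by
    apply (Subgroup.closure_le _).2
    rintro g ⟨r, t, hg⟩
    have hxG : g = xG r t := by
      apply Units.ext
      rw [hg]
      show _ = decI (xc r.val t)
      ext i j
      rw [xc_spec]
    have hmem : g ∈ GG := by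
      rw [hxG]
      exact xG_mem r t
    refine ⟨⟨g, hmem⟩, ⟨psi.symm ⟨g, hmem⟩, ?_, psi.apply_symm_apply _⟩, rfl⟩
    show (psi.symm ⟨g, hmem⟩ : HB) ∈ F.subgroupOf HB
    rw [Subgroup.mem_subgroupOf]
    have hr : r.val < 12 := r.2
    have h1 := h r.val hr (ZMod.val t)
    have e : XX (r.val, ZMod.val t) = ((psi.symm ⟨xG ⟨r.val, hr⟩ ((ZMod.val t : ℕ) : K), xG_mem _ _⟩ : HB) : G) := dif_pos hr
    rw [e] at h1
    have e2 : (⟨xG ⟨r.val, hr⟩ ((ZMod.val t : ℕ) : K), xG_mem _ _⟩ : GG) = ⟨g, hmem⟩ := by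
      apply Subtype.ext
      show xG ⟨r.val, hr⟩ ((ZMod.val t : ℕ) : K) = g
      rw [hxG, ZMod.natCast_zmod_val]
    rw [e2] at h1
    exact h1
  intro x hx
  have h1 : ((psi ⟨x, hx⟩ : GG) : GL IdG K) ∈ J := hle (psi ⟨x, hx⟩).2
  obtain ⟨y, ⟨z, hz, e1⟩, e2⟩ := h1
  have e3 : y = psi ⟨x, hx⟩ := Subtype.ext e2
  have e4 : psi z = psi ⟨x, hx⟩ := by
    rw [← e3]
    exact e1
  have e5 := psi.injective e4
  rw [e5] at hz
  exact Subgroup.mem_subgroupOf.mp hz

section step

variable (β : MulAut G)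

theorem n7_step {p q : ℕ × ℕ} (h : (p, q) ∈ [((6,1),(10,1)), ((8,1),(9,1)), ((9,1),(8,4)), ((10,1),(6,4)), ((11,1),(11,1)),
      ((7,1),(4,4)), ((3,1),(2,1)), ((5,1),(1,1))]) : ew wN7 * XX p = XX q * ew wN7 := by
  have := rel_ew (n7_rel (p, q) h)
  rw [ew_append, ew_singleton, ew_cons] at this
  exact this

theorem n6_step {p q : ℕ × ℕ} (h : (p, q) ∈ [((7,1),(8,1)), ((8,1),(7,4)), ((9,1),(9,1)), ((10,1),(11,1)), ((11,1),(10,4)),
      ((6,1),(5,4)), ((4,1),(3,1)), ((1,1),(0,1))]) : ew wN6 * XX p = XX q * ew wN6 := by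
  have := rel_ew (n6_rel (p, q) h)
  rw [ew_append, ew_singleton, ew_cons] at this
  exact this

/-- An automorphism fixing the Borel subgroup pointwise is trivial. -/
theorem fix_all (h7 : β (xr 7) = xr 7) (h6 : β (xr 6) = xr 6) (ht1 : β t1 = t1) (ht2 : β t2 = t2) : β = 1 := by
  have hP : Pp ≤ fixS β := by
    apply (Subgroup.closure_le _).2
    intro s hs
    simp only [Set.mem_insert_iff, Set.mem_singleton_iff] at hs
    rcases hs with rfl | rfl
    · exact h7
    · exact h6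
  have hx : ∀ r t, r = 6 ∨ r = 7 ∨ r = 8 ∨ r = 9 ∨ r = 10 ∨ r = 11 → β (XX (r, t)) = XX (r, t) := by
    intro r t hr
    have : xr r ∈ fixS β := by
      rcases hr with rfl | rfl | rfl | rfl | rfl | rfl
      · exact hP x6_Pp
      · exact hP x7_Pp
      · exact hP x8_Pp
      · exact hP x9_Pp
      · exact hP x10_Pp
      · exact hP x11_Pp
    exact XX_mem_of (fixS β) (by omega) this t
  have h8 : β (xr 8) = xr 8 := hx 8 1 (by norm_num)
  have h9 : β (xr 9) = xr 9 := hx 9 1 (by norm_num)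
  have h10 : β (xr 10) = xr 10 := hx 10 1 (by norm_num)
  have h11 : β (xr 11) = xr 11 := hx 11 1 (by norm_num)
  -- the monomial element `n₇`
  have hn7 : β (ew wN7) = ew wN7 := by
    apply fix_of_one
    apply cent_alpha
    · exact comm_of_fix h6 (hx 10 1 (by norm_num)) (n7_step (by decide))
    · exact comm_of_fix h8 (hx 9 1 (by norm_num)) (n7_step (by decide))
    · exact comm_of_fix h9 (hx 8 4 (by norm_num)) (n7_step (by decide))
    · exact comm_of_fix h10 (hx 6 4 (by norm_num)) (n7_step (by decide))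
    · exact comm_of_fix h11 (hx 11 1 (by norm_num)) (n7_step (by decide))
    · refine comm_of_fix (y' := t1 * t1 * t1) ht1 (by rw [map_mul, map_mul, ht1]) ?_
      have := rel_ew n7_t1
      rw [ew_append, ew_append, ew_append, ew_append] at this
      exact this
    · refine comm_of_fix (y' := t1 * t2) ht2 (by rw [map_mul, ht1, ht2]) ?_
      have := rel_ew n7_t2
      rw [ew_append, ew_append, ew_append] at this
      exact this
  have hn6 : β (ew wN6) = ew wN6 := by
    apply fix_of_one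
    apply cent_beta
    · exact comm_of_fix h7 (hx 8 1 (by norm_num)) (n6_step (by decide))
    · exact comm_of_fix h8 (hx 7 4 (by norm_num)) (n6_step (by decide))
    · exact comm_of_fix h9 (hx 9 1 (by norm_num)) (n6_step (by decide))
    · exact comm_of_fix h10 (hx 11 1 (by norm_num)) (n6_step (by decide))
    · exact comm_of_fix h11 (hx 10 4 (by norm_num)) (n6_step (by decide))
    · refine comm_of_fix (y' := t1 * t2 * t2 * t2) ht1 (by rw [map_mul, map_mul, map_mul, ht1, ht2]) ?_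
      have := rel_ew n6_t1
      rw [ew_append, ew_append, ew_append, ew_append, ew_append] at this
      exact this
    · refine comm_of_fix (y' := t2 * t2 * t2) ht2 (by rw [map_mul, map_mul, ht2]) ?_
      have := rel_ew n6_t2
      rw [ew_append, ew_append, ew_append, ew_append] at this
      exact this
  -- the images of fixed elements under fixed elements
  have hconj7 : ∀ {p q : ℕ × ℕ}, ew wN7 * XX p = XX q * ew wN7 → XX p ∈ fixS β → XX q ∈ fixS β := by
    intro p q e hp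
    have e2 : XX q = ew wN7 * XX p * (ew wN7)⁻¹ := by rw [e]; group
    rw [e2]
    exact (fixS β).mul_mem ((fixS β).mul_mem hn7 hp) ((fixS β).inv_mem hn7)
  have hconj6 : ∀ {p q : ℕ × ℕ}, ew wN6 * XX p = XX q * ew wN6 → XX p ∈ fixS β → XX q ∈ fixS β := by
    intro p q e hp
    have e2 : XX q = ew wN6 * XX p * (ew wN6)⁻¹ := by rw [e]; group
    rw [e2]
    exact (fixS β).mul_mem ((fixS β).mul_mem hn6 hp) ((fixS β).inv_mem hn6)
  have hinv : ∀ {r : ℕ}, r < 12 → XX (r, 4) ∈ fixS β → xr r ∈ fixS β := by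
    intro r hr h
    have e : (XX (r, 1))⁻¹ = XX (r, 4) := XX_inv hr (by norm_num)
    rw [← e] at h
    have := (fixS β).inv_mem h
    rwa [inv_inv] at this
  have x4F : xr 4 ∈ fixS β := hinv (by norm_num) (hconj7 (n7_step (by decide)) h7)
  have x5F : xr 5 ∈ fixS β := hinv (by norm_num) (hconj6 (n6_step (by decide)) h6)
  have x3F : xr 3 ∈ fixS β := hconj6 (n6_step (by decide)) x4F
  have x2F : xr 2 ∈ fixS β := hconj7 (n7_step (by decide)) x3F
  have x1F : xr 1 ∈ fixS β := hconj7 (n7_step (by decide)) x5F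
  have x0F : xr 0 ∈ fixS β := hconj6 (n6_step (by decide)) x1F
  have hHB : HB ≤ fixS β := by
    apply HB_le_of_XX
    intro r hr t
    apply XX_mem_of _ hr
    interval_cases r
    · exact x0F
    · exact x1F
    · exact x2F
    · exact x3F
    · exact x4F
    · exact x5F
    · exact h6
    · exact h7
    · exact h8
    · exact h9
    · exact h10
    · exact h11
  -- the last generator
  have hZc : ∀ y ∈ A 1, (Z⁻¹ * β Z) * y * (Z⁻¹ * β Z)⁻¹ = y := by
    intro y hy
    have hy1 := mem_A.mp hy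
    have hW : W 1 = Z := rfl
    rw [hW] at hy1
    refine comm_of_fix (y' := Z * y * Z⁻¹) (hHB hy1.1) (hHB hy1.2) (by group)
  have hZ : β Z = Z := by
    apply fix_of_one
    apply cent_alpha
    · exact hZc _ (Qa_le_A1 x6_Qa)
    · exact hZc _ (Qa_le_A1 x8_Qa)
    · exact hZc _ (Qa_le_A1 x9_Qa)
    · exact hZc _ (Qa_le_A1 x10_Qa)
    · exact hZc _ (Qa_le_A1 x11_Qa)
    · exact hZc _ t1_A1
    · exact hZc _ t2_A1
  have htop : fixS β = ⊤ := by
    rw [eq_top_iff, ← hgen']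
    apply (Subgroup.closure_le _).2
    rintro x (hx | hx)
    · exact hHB hx
    · rw [Set.mem_singleton_iff.mp hx]
      exact hZ
  ext x
  have : x ∈ fixS β := by
    rw [htop]
    trivial
  exact this

end step

/-! ### Normalising an automorphism -/

/-- A subgroup carried into itself is carried onto itself. -/
theorem map_onto (α : MulAut G) {P : Subgroup G} (h : ∀ p ∈ P, α p ∈ P) {y : G} (hy : y ∈ P) : ∃ p ∈ P, α p = y := by
  have h1 : P.map α.toMonoidHom ≤ P := by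
    rintro _ ⟨p, hp, rfl⟩
    exact h p hp
  have h2 : Nat.card (P.map α.toMonoidHom) = Nat.card P := Subgroup.card_map_of_injective α.injective
  have h3 : P.map α.toMonoidHom = P := Subgroup.eq_of_le_of_card_ge h1 h2.ge
  rw [← h3] at hy
  obtain ⟨p, hp, e⟩ := hy
  exact ⟨p, hp, e⟩

theorem conj_mul_apply (g : G) (α : MulAut G) (x : G) : (MulAut.conj g * α) x = g * α x * g⁻¹ := rfl

/-- First step: the Sylow subgroup. -/
theorem step_A (α : MulAut G) : ∃ g : G, ∀ p ∈ Pp, (MulAut.conj g * α) p ∈ Pp := by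
  haveI : Fact (Nat.Prime 5) := ⟨by norm_num⟩
  have hG : Nat.card G = 5 ^ 6 * 3312971456256 := by
    rw [card_G']
    norm_num
  have hR : Nat.card (Pp.map α.toMonoidHom) = 5 ^ 6 := by
    rw [Subgroup.card_map_of_injective α.injective, card_Pp]
    norm_num
  obtain ⟨g, hg⟩ := sylow_conj hG (by norm_num) Pp (Pp.map α.toMonoidHom) (by rw [card_Pp]; norm_num) hR
  refine ⟨g, fun p hp => ?_⟩
  rw [conj_mul_apply]
  exact (hg _).mp ⟨p, hp, rfl⟩

/-- Second step: the torus. -/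
theorem step_B (α : MulAut G) (hP : ∀ p ∈ Pp, α p ∈ Pp) :
    ∃ g : G, (∀ p ∈ Pp, (MulAut.conj g * α) p ∈ Pp) ∧ ∀ t ∈ Tt, (MulAut.conj g * α) t ∈ Tt := by
  haveI : Fact (Nat.Prime 2) := ⟨by norm_num⟩
  have hTY : Tt.map α.toMonoidHom ≤ Yy := by
    rintro _ ⟨t, ht, rfl⟩
    show α t ∈ Yy
    apply mem_norm_of_conj
    intro q hq
    obtain ⟨p, hp, rfl⟩ := map_onto α hP hq
    have h1 : t * p * t⁻¹ ∈ Pp := norm_conj (Tt_le_Yy ht) hp
    have h2 := hP _ h1
    rwa [map_mul, map_mul, map_inv] at h2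
  have hY : Nat.card Yy = 2 ^ 4 * 15625 := by
    rw [card_Yy]
    norm_num
  have hR : Nat.card (Tt.map α.toMonoidHom) = 2 ^ 4 := by
    rw [Subgroup.card_map_of_injective α.injective, card_Tt]
    norm_num
  obtain ⟨g, hgY, hg⟩ := sylow_conj_in Yy (Tt.map α.toMonoidHom) Tt hTY Tt_le_Yy hY (by norm_num)
    (by rw [card_Tt]; norm_num) hR
  refine ⟨g, fun p hp => ?_, fun t ht => ?_⟩
  · rw [conj_mul_apply]
    exact norm_conj hgY (hP p hp)
  · rw [conj_mul_apply]
    exact (hg _).mp ⟨t, ht, rfl⟩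

theorem Tm_one : Tm 0 0 = 1 := by simp [Tm]

theorem Tm_sq (i j : ℕ) : Tm i j * Tm i j = Tm (i + i) (j + j) := by
  simp only [Tm]
  have h : t2 ^ j * t1 ^ i = t1 ^ i * t2 ^ j := ((Commute.pow_pow (show Commute t2 t1 from t12_comm.symm) j i)).eq
  rw [pow_add, pow_add]
  calc t1 ^ i * t2 ^ j * (t1 ^ i * t2 ^ j) = t1 ^ i * (t2 ^ j * t1 ^ i) * t2 ^ j := by group
    _ = t1 ^ i * (t1 ^ i * t2 ^ j) * t2 ^ j := by rw [h]
    _ = _ := by group

theorem Tm_sq_ne : Tm 1 2 * Tm 1 2 ≠ 1 := by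
  intro h
  rw [Tm_sq, ← Tm_one] at h
  have := Tm_mod 2 4
  norm_num at this
  rw [← this] at h
  have h2 := Tm_inj (by norm_num) (by norm_num) (by norm_num) (by norm_num) h
  omega

theorem Tm_sq_ne' : Tm 2 1 * Tm 2 1 ≠ 1 := by
  intro h
  rw [Tm_sq, ← Tm_one] at h
  have := Tm_mod 4 2
  norm_num at this
  rw [← this] at h
  have h2 := Tm_inj (by norm_num) (by norm_num) (by norm_num) (by norm_num) h
  omega

theorem Tm_even {i j : ℕ} (hi : i % 2 = 0) (hj : j % 2 = 0) : Tm i j * Tm i j = 1 := by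
  rw [Tm_sq, ← Tm_mod]
  have h1 : (i + i) % 4 = 0 := by omega
  have h2 : (j + j) % 4 = 0 := by omega
  rw [h1, h2, Tm_one]

theorem xr_pow_eq {r n : ℕ} (hr : r < 12) (h : n % 5 = 1) : xr r ^ n = xr r := by
  rw [← xr_pow_mod hr, h, pow_one]

theorem adjust_aux : ∀ m, m < 5 → m ≠ 0 → ∀ n, n < 5 → n ≠ 0 → ∃ i, i < 4 ∧ ∃ j, j < 4 ∧
    (cc 7 i j * m) % 5 = 1 ∧ (cc 6 i j * n) % 5 = 1 := by decide +kernel

/-- Third step: the root elements. -/
theorem step_C (α : MulAut G) (hP : ∀ p ∈ Pp, α p ∈ Pp) (hT : ∀ t ∈ Tt, α t ∈ Tt) :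
    ∃ g : G, (MulAut.conj g * α) (xr 7) = xr 7 ∧ (MulAut.conj g * α) (xr 6) = xr 6 ∧
      ∀ t ∈ Tt, (MulAut.conj g * α) t ∈ Tt := by
  -- the images of two elements of order four
  obtain ⟨i, j, hi, hj, e1⟩ := Tt_form _ (hT _ (Tm_mem 1 2))
  obtain ⟨i', j', hi', hj', e2⟩ := Tt_form _ (hT _ (Tm_mem 2 1))
  have hne1 : ¬ (i % 2 = 0 ∧ j % 2 = 0) := by
    rintro ⟨h1, h2⟩
    apply Tm_sq_ne
    apply α.injective
    rw [map_mul, e1, Tm_even h1 h2, map_one]
  have hne2 : ¬ (i' % 2 = 0 ∧ j' % 2 = 0) := by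
    rintro ⟨h1, h2⟩
    apply Tm_sq_ne'
    apply α.injective
    rw [map_mul, e2, Tm_even h1 h2, map_one]
  have c1 : Tm 1 2 * xr 7 * (Tm 1 2)⁻¹ = xr 7 := by
    rw [Tm_conj (by norm_num) (by norm_num)]
    exact xr_pow_eq (by norm_num) (by decide)
  have c2 : Tm 2 1 * xr 6 * (Tm 2 1)⁻¹ = xr 6 := by
    rw [Tm_conj (by norm_num) (by norm_num)]
    exact xr_pow_eq (by norm_num) (by decide)
  have u1 : Tm i j * α (xr 7) * (Tm i j)⁻¹ = α (xr 7) := by
    have := congrArg α c1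
    rwa [map_mul, map_mul, map_inv, e1] at this
  have u2 : Tm i' j' * α (xr 6) * (Tm i' j')⁻¹ = α (xr 6) := by
    have := congrArg α c2
    rwa [map_mul, map_mul, map_inv, e2] at this
  obtain ⟨r, m, hr, hr', hu⟩ := cent_P hi hj hne1 (hP _ x7_Pp) u1
  obtain ⟨s, n, hs, hs', hv⟩ := cent_P hi' hj' hne2 (hP _ x6_Pp) u2
  have h3 : (cm (xr r ^ m) ((cm (xr r ^ m) ((cm (xr r ^ m) (xr s ^ n)))))) ≠ 1 := by
    rw [← hu, ← hv, ← map_cm, ← map_cm, ← map_cm]
    intro h0
    apply w3_76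
    apply α.injective
    rw [h0, map_one]
  obtain ⟨rfl, rfl⟩ := w3_root hr hr' hs hs' h3
  -- reduce to exponents below five
  have hm5 : α (xr 7) = xr 7 ^ (m % 5) := by rw [xr_pow_mod (by norm_num)]; exact hu
  have hn5 : α (xr 6) = xr 6 ^ (n % 5) := by rw [xr_pow_mod (by norm_num)]; exact hv
  have hm0 : m % 5 ≠ 0 := by
    intro h0
    rw [h0, pow_zero] at hm5
    apply xr_ne_one (r := 7) (by norm_num)
    apply α.injective
    rw [hm5, map_one]
  have hn0 : n % 5 ≠ 0 := by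
    intro h0
    rw [h0, pow_zero] at hn5
    apply xr_ne_one (r := 6) (by norm_num)
    apply α.injective
    rw [hn5, map_one]
  obtain ⟨a, ha, b, hb, h7, h6⟩ := adjust_aux (m % 5) (Nat.mod_lt _ (by norm_num)) hm0 (n % 5) (Nat.mod_lt _ (by norm_num)) hn0
  refine ⟨Tm a b, ?_, ?_, fun t ht => ?_⟩
  · rw [conj_mul_apply, hm5, Tm_conj_pow (by norm_num) (by norm_num)]
    exact xr_pow_eq (by norm_num) h7
  · rw [conj_mul_apply, hn5, Tm_conj_pow (by norm_num) (by norm_num)]
    exact xr_pow_eq (by norm_num) h6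
  · rw [conj_mul_apply]
    exact Tt.mul_mem (Tt.mul_mem (Tm_mem a b) (hT t ht)) (Tt.inv_mem (Tm_mem a b))

/-- Fourth step: the torus is fixed. -/
theorem step_D (β : MulAut G) (h7 : β (xr 7) = xr 7) (h6 : β (xr 6) = xr 6) (hT : ∀ t ∈ Tt, β t ∈ Tt) {a b : ℕ}
    (ha : a < 4) (hb : b < 4) : β (Tm a b) = Tm a b := by
  obtain ⟨i, j, hi, hj, e⟩ := Tt_form _ (hT _ (Tm_mem a b))
  have c7 : Tm i j * xr 7 * (Tm i j)⁻¹ = xr 7 ^ cc 7 a b := by
    have := congrArg β (Tm_conj (r := 7) (by norm_num) (by norm_num) a b)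
    rwa [map_mul, map_mul, map_inv, map_pow, e, h7] at this
  have c6 : Tm i j * xr 6 * (Tm i j)⁻¹ = xr 6 ^ cc 6 a b := by
    have := congrArg β (Tm_conj (r := 6) (by norm_num) (by norm_num) a b)
    rwa [map_mul, map_mul, map_inv, map_pow, e, h6] at this
  rw [Tm_conj (by norm_num) (by norm_num)] at c7 c6
  obtain ⟨rfl, rfl⟩ := cc_sep i hi j hj a ha b hb (xr_pow_inj (by norm_num) c7) (xr_pow_inj (by norm_num) c6)
  exact e

/-- Every automorphism of the presented group is inner. -/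
theorem aut_inner (α : MulAut G) : ∃ g : G, MulAut.conj g * α = 1 := by
  obtain ⟨g1, h1⟩ := step_A α
  obtain ⟨g2, h2, h3⟩ := step_B _ h1
  obtain ⟨g3, h7, h6, h4⟩ := step_C _ h2 h3
  set β := MulAut.conj g3 * (MulAut.conj g2 * (MulAut.conj g1 * α)) with hβ
  have ht1 : β t1 = t1 := by
    have := step_D β h7 h6 h4 (a := 1) (b := 0) (by norm_num) (by norm_num)
    simpa [Tm] using this
  have ht2 : β t2 = t2 := by
    have := step_D β h7 h6 h4 (a := 0) (b := 1) (by norm_num) (by norm_num)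
    simpa [Tm] using this
  have hone := fix_all β h7 h6 ht1 ht2
  refine ⟨g3 * g2 * g1, ?_⟩
  rw [map_mul, map_mul, ← hone, hβ]
  group

end Cfsg.Agent.Lib.LyOut
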